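import Cfsg.Agent.MTwentyFourNormal.Coord
import Cfsg.Prelude.Def_TwoFusion

/-!
In a group with a Sylow 2-subgroup of the type of the Mathieu group of degree 24 modulo its centre the abelian
subgroup of order 64 is strongly closed.
-/

set_option autoImplicit false
set_option linter.unusedSectionVars false
set_option linter.style.haveILetI false

namespace Cfsg.Lib.MTwentyFourNormal

open Subgroup

universe u

variable {G : Type u} [Group G] [Finite G]

local notation "cg" => fun g => MulEquiv.toMonoidHom (MulAut.conj g)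

/-- A Sylow 2-subgroup with coordinates whose abelian part is its only abelian subgroup of order 64. -/
structure Config (S : Sylow 2 G) (A : Subgroup G) where
  coord : Coord (S : Subgroup G) A
  uniq : ∀ B : Subgroup G, B ≤ (S : Subgroup G) → IsMulCommutative ↥B → Nat.card ↥B = 64 → B = A

theorem mem_map_cg {P : Subgroup G} {g y : G} : y ∈ P.map (cg g) ↔ g⁻¹ * y * g ∈ P := by
  refine ⟨?_, fun h => ⟨_, h, ?_⟩⟩
  · rintro ⟨p, hp, rfl⟩
    show g⁻¹ * (g * p * g⁻¹) * g ∈ P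
    rwa [show g⁻¹ * (g * p * g⁻¹) * g = p by group]
  · show g * (g⁻¹ * y * g) * g⁻¹ = y
    group

theorem conj_mem_map {P : Subgroup G} {p : G} (hp : p ∈ P) (g : G) : g * p * g⁻¹ ∈ P.map (cg g) := ⟨p, hp, rfl⟩

theorem card_map_cg (P : Subgroup G) (g : G) : Nat.card (P.map (cg g)) = Nat.card P :=
  card_map_of_injective (MulAut.conj g).injective

theorem map_cg_mul (P : Subgroup G) (g h : G) : P.map (cg (g * h)) = (P.map (cg h)).map (cg g) := by
  ext y
  rw [mem_map_cg, mem_map_cg, mem_map_cg]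
  group

theorem conj_of_normalizer {H : Subgroup G} {g x : G} (hg : g ∈ normalizer (H : Set G)) (hx : x ∈ H) :
    g * x * g⁻¹ ∈ H := (mem_normalizer_iff.1 hg x).1 hx

theorem normalizer_of_map_le {H : Subgroup G} {g : G} (h : H.map (cg g) ≤ H) : g ∈ normalizer (H : Set G) :=
  mem_normalizer_iff_map_conj_eq.2 (eq_of_le_of_card_ge h (card_map_cg H g).ge)

/-- A largest 2-subgroup of `M` over a given one. -/
theorem exists_max {M P : Subgroup G} (hP : IsPGroup 2 P) (hPM : P ≤ M) :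
    ∃ R : Subgroup G, P ≤ R ∧ R ≤ M ∧ IsPGroup 2 R ∧ ∀ Q : Subgroup G, Q ≤ M → IsPGroup 2 Q → R ≤ Q → Q = R := by
  obtain ⟨R, hR, hmax⟩ := (Set.toFinite {R : Subgroup G | P ≤ R ∧ R ≤ M ∧ IsPGroup 2 R}).exists_maximal
    ⟨P, le_rfl, hPM, hP⟩
  exact ⟨R, hR.1, hR.2.1, hR.2.2, fun Q h1 h2 h3 => le_antisymm (hmax ⟨hR.1.trans h3, h1, h2⟩ h3) h3⟩

/-- Sylow's theorem in a subgroup. -/
theorem exists_conj_le {M P R : Subgroup G} (hPM : P ≤ M) (hP : IsPGroup 2 P) (hRM : R ≤ M) (hR : IsPGroup 2 R)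
    (hmax : ∀ Q : Subgroup G, Q ≤ M → IsPGroup 2 Q → R ≤ Q → Q = R) : ∃ m ∈ M, P.map (cg m) ≤ R := by
  haveI : Fact (Nat.Prime 2) := ⟨Nat.prime_two⟩
  let R' : Sylow 2 M :=
    { toSubgroup := R.subgroupOf M
      isPGroup' := hR.of_equiv (subgroupOfEquivOfLe hRM).symm
      is_maximal' := fun {Q} hQ hle => by
        have h1 := hmax (Q.map M.subtype) (map_subtype_le Q) (hQ.map M.subtype)
          fun r hr => ⟨⟨r, hRM hr⟩, hle (show (⟨r, hRM hr⟩ : M) ∈ R.subgroupOf M from hr), rfl⟩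
        rw [← h1]
        exact (comap_map_eq_self_of_injective M.subtype_injective Q).symm }
  obtain ⟨P', hP'⟩ := (hP.of_equiv (subgroupOfEquivOfLe hPM).symm).exists_le_sylow
  obtain ⟨m, hm⟩ := MulAction.exists_smul_eq M P' R'
  refine ⟨m, m.2, ?_⟩
  rintro _ ⟨p, hp, rfl⟩
  have h1 : m * (⟨p, hPM hp⟩ : M) * m⁻¹ ∈ (R' : Subgroup M) := by
    rw [← hm, Sylow.coe_subgroup_smul]
    exact ⟨_, hP' (show (⟨p, hPM hp⟩ : M) ∈ P.subgroupOf M from hp), rfl⟩
  exact h1

namespace Config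

variable {S : Sylow 2 G} {A : Subgroup G} (C : Config S A)
include C

theorem le : A ≤ (S : Subgroup G) := C.coord.le

theorem isPGroup : IsPGroup 2 A := S.2.to_le C.le

theorem map_eq {g : G} (h : A.map (cg g) ≤ (S : Subgroup G)) : A.map (cg g) = A := by
  refine C.uniq _ h ⟨⟨?_⟩⟩ (by rw [card_map_cg, C.coord.card_part])
  rintro ⟨_, a, ha, rfl⟩ ⟨_, b, hb, rfl⟩
  refine Subtype.ext ?_
  show MulAut.conj g a * MulAut.conj g b = MulAut.conj g b * MulAut.conj g a
  rw [← map_mul, ← map_mul, C.coord.part_comm ha hb]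

theorem mem_normalizer {g : G} (h : A.map (cg g) ≤ (S : Subgroup G)) : g ∈ normalizer (A : Set G) :=
  mem_normalizer_iff_map_conj_eq.2 (C.map_eq h)

/-- A 2-subgroup is moved into `S`; if it contains `A`, by an element normalising `A`. -/
theorem exists_into {R : Subgroup G} (hR : IsPGroup 2 R) (hA : A ≤ R) :
    ∃ g ∈ normalizer (A : Set G), R.map (cg g) ≤ (S : Subgroup G) := by
  obtain ⟨g, -, hg⟩ := exists_conj_le (M := ⊤) le_top hR le_top S.2 fun Q _ h2 h3 => S.3 h2 h3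
  exact ⟨g, C.mem_normalizer ((map_mono hA).trans hg), hg⟩

/-- If the centraliser of a subgroup of `A` in `S` is a Sylow subgroup of the centraliser and is abelian modulo
it, then its normaliser does not move an element of `A` out of `A` inside it. -/
theorem fused {T : Subgroup G} (hT : T ≤ A) {P : Subgroup G} (hPS : P ≤ (S : Subgroup G)) (hAP : A ≤ P)
    (hPC : P ≤ centralizer (T : Set G))
    (hcom : ∀ x ∈ P, ∀ y ∈ P, x * y * x⁻¹ * y⁻¹ ∈ T)
    (hmax : ∀ Q : Subgroup G, Q ≤ centralizer (T : Set G) → IsPGroup 2 Q → P ≤ Q → Q = P)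
    {x : G} (hx : x ∈ normalizer (T : Set G)) {a : G} (ha : a ∈ A) (hb : x * a * x⁻¹ ∈ P) :
    x * a * x⁻¹ ∈ A := by
  set b := x * a * x⁻¹ with hb'
  have hxC : ∀ y ∈ centralizer (T : Set G), x * y * x⁻¹ ∈ centralizer (T : Set G) := fun y hy =>
    mem_centralizer_iff.2 fun t ht => by
      have ht' := conj_of_normalizer (inv_mem hx) ht
      rw [inv_inv] at ht'
      have := mem_centralizer_iff.1 hy _ ht'
      calc t * (x * y * x⁻¹) = x * (x⁻¹ * t * x * y) * x⁻¹ := by group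
        _ = x * (y * (x⁻¹ * t * x)) * x⁻¹ := by rw [this]
        _ = _ := by group
  let M : Subgroup G :=
    { carrier := {m | m ∈ centralizer (T : Set G) ∧ m * b * m⁻¹ * b⁻¹ ∈ T}
      one_mem' := ⟨one_mem _, by rw [one_mul, inv_one, mul_one, mul_inv_cancel]; exact one_mem _⟩
      mul_mem' := fun {m n} hm hn => ⟨mul_mem hm.1 hn.1, by
        rw [show m * n * b * (m * n)⁻¹ * b⁻¹ = m * (n * b * n⁻¹ * b⁻¹) * m⁻¹ * (m * b * m⁻¹ * b⁻¹) by group]
        exact mul_mem (by rw [← mem_centralizer_iff.1 hm.1 _ hn.2, mul_inv_cancel_right]; exact hn.2) hm.2⟩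
      inv_mem' := fun {m} hm => ⟨inv_mem hm.1, by
        have h1 := inv_mem hm.2
        have h2 := mem_centralizer_iff.1 (inv_mem hm.1) _ h1
        rwa [show m⁻¹ * b * m⁻¹⁻¹ * b⁻¹ = m⁻¹ * (m * b * m⁻¹ * b⁻¹)⁻¹ * m by group, ← h2, inv_mul_cancel_right]⟩ }
  have hP2 : P.map (cg x) ≤ centralizer (T : Set G) := by
    rintro _ ⟨p, hp, rfl⟩
    exact hxC p (hPC hp)
  have hxi : ∀ y ∈ centralizer (T : Set G), x⁻¹ * y * x ∈ centralizer (T : Set G) := fun y hy =>
    mem_centralizer_iff.2 fun t ht => by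
      have := mem_centralizer_iff.1 hy _ (conj_of_normalizer hx ht)
      calc t * (x⁻¹ * y * x) = x⁻¹ * (x * t * x⁻¹ * y) * x := by group
        _ = x⁻¹ * (y * (x * t * x⁻¹)) * x := by rw [this]
        _ = _ := by group
  have hPM : P ≤ M := fun p hp => ⟨hPC hp, hcom p hp b hb⟩
  have hP2M : P.map (cg x) ≤ M := by
    rintro _ ⟨p, hp, rfl⟩
    refine ⟨hxC p (hPC hp), ?_⟩
    show x * p * x⁻¹ * b * (x * p * x⁻¹)⁻¹ * b⁻¹ ∈ T
    rw [hb', show x * p * x⁻¹ * (x * a * x⁻¹) * (x * p * x⁻¹)⁻¹ * (x * a * x⁻¹)⁻¹ =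
      x * (p * a * p⁻¹ * a⁻¹) * x⁻¹ by group]
    exact conj_of_normalizer hx (hcom p hp a (hAP ha))
  have hPp : IsPGroup 2 P := S.2.to_le hPS
  obtain ⟨m, hm, hmle⟩ := exists_conj_le hP2M (hPp.map _) hPM hPp fun Q h1 => hmax Q (h1.trans fun y hy => hy.1)
  rw [← map_cg_mul] at hmle
  have hn := C.mem_normalizer ((map_mono hAP).trans (hmle.trans hPS))
  have h2 := conj_of_normalizer hn ha
  rw [show m * x * a * (m * x)⁻¹ = (m * b * m⁻¹ * b⁻¹) * b by rw [hb']; group] at h2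
  have h3 := mul_mem (inv_mem (hT hm.2)) h2
  rwa [inv_mul_cancel_left] at h3

/-- The centraliser in `S` of a subgroup of `A` of the largest possible order is a Sylow subgroup. -/
theorem max_of_bound {T P : Subgroup G} (hAP : A ≤ P) (hT : T ≤ A)
    (hbound : ∀ g : G, T.map (cg g) ≤ A →
      Nat.card ((S : Subgroup G) ⊓ centralizer (T.map (cg g) : Set G) : Subgroup G) ≤ Nat.card P) :
    ∀ Q : Subgroup G, Q ≤ centralizer (T : Set G) → IsPGroup 2 Q → P ≤ Q → Q = P := by
  intro Q hQ hQ2 hPQ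
  refine (eq_of_le_of_card_ge hPQ ?_).symm
  obtain ⟨g, hg, hgS⟩ := C.exists_into hQ2 (hAP.trans hPQ)
  have h1 : T.map (cg g) ≤ A := (map_mono hT).trans (mem_normalizer_iff_map_conj_eq.1 hg).le
  refine (card_map_cg Q g).ge.trans ((card_le_of_le ?_).trans (hbound g h1))
  refine le_inf hgS ?_
  rintro _ ⟨q, hq, rfl⟩
  refine mem_centralizer_iff.2 ?_
  rintro _ ⟨t, ht, rfl⟩
  show MulAut.conj g t * MulAut.conj g q = MulAut.conj g q * MulAut.conj g t
  rw [← map_mul, ← map_mul, mem_centralizer_iff.1 (hQ hq) t ht]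

section Outside

variable {s : G} (hs : s ∈ (S : Subgroup G)) (hsA : s ∉ A) (h2 : s * s = 1)
include hs hsA h2

/-- The centraliser of `bSub A s` in `S`. -/
theorem centralizer_bSub_facts :
    ((S : Subgroup G) ⊓ centralizer (bSub A s : Set G) = A ⊔ zpowers s) ∧
    (∀ x ∈ (S : Subgroup G) ⊓ centralizer (bSub A s : Set G),
      ∀ y ∈ (S : Subgroup G) ⊓ centralizer (bSub A s : Set G), x * y * x⁻¹ * y⁻¹ ∈ bSub A s) ∧
    128 ≤ Nat.card ((S : Subgroup G) ⊓ centralizer (bSub A s : Set G) : Subgroup G) := by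
  have hAle : A ≤ (S : Subgroup G) ⊓ centralizer (bSub A s : Set G) := le_inf C.le fun a ha =>
    mem_centralizer_iff.2 fun b hb => C.coord.part_comm (mem_bSub.1 hb).1 ha
  have hsle : s ∈ (S : Subgroup G) ⊓ centralizer (bSub A s : Set G) :=
    ⟨hs, mem_centralizer_iff.2 fun b hb => (mem_bSub.1 hb).2⟩
  have heq : (S : Subgroup G) ⊓ centralizer (bSub A s : Set G) = A ⊔ zpowers s := by
    refine le_antisymm (fun x hx => ?_) (sup_le hAle (zpowers_le.2 hsle))
    rcases C.coord.centralizer_bSub hs hsA h2 hx.1 (fun b hb => (mem_centralizer_iff.1 hx.2 b hb).symm) with h | h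
    · exact mem_sup_left h
    · have := mul_mem (mem_sup_left (T := zpowers s) h) (mem_sup_right (S := A) (mem_zpowers s))
      rwa [mul_assoc, h2, mul_one] at this
  refine ⟨heq, fun x hx y hy => ?_, ?_⟩
  · have key : ∀ z ∈ (S : Subgroup G) ⊓ centralizer (bSub A s : Set G), ∃ a ∈ A, z = a ∨ z = a * s := by
      intro z hz
      rcases C.coord.centralizer_bSub hs hsA h2 hz.1 (fun b hb => (mem_centralizer_iff.1 hz.2 b hb).symm) with h | h
      · exact ⟨z, h, Or.inl rfl⟩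
      · exact ⟨_, h, Or.inr (by rw [mul_assoc, h2, mul_one])⟩
    have hc : ∀ a ∈ A, s * a * s⁻¹ * a⁻¹ ∈ bSub A s := fun a ha => C.coord.cmt_mem_bSub hs hsA h2 ha
    have hinv : ∀ a ∈ A, a⁻¹ = a := fun a ha => inv_eq_of_mul_eq_one_left (C.coord.part_sq ha)
    have hc' : ∀ a ∈ A, a * s * a⁻¹ * s⁻¹ ∈ bSub A s := fun a ha => by
      have := inv_mem (hc a ha)
      rwa [show (s * a * s⁻¹ * a⁻¹)⁻¹ = a * s * a⁻¹ * s⁻¹ by group] at this
    have hm : ∀ a ∈ A, ∀ w ∈ bSub A s, a * w * a⁻¹ = w := fun a ha w hw => by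
      rw [C.coord.part_comm ha (mem_bSub.1 hw).1, mul_inv_cancel_right]
    obtain ⟨a, ha, e | e⟩ := key x hx <;> obtain ⟨b, hb, e' | e'⟩ := key y hy <;> rw [e, e']
    · rw [C.coord.part_comm ha hb, mul_inv_cancel_right, mul_inv_cancel]; exact one_mem _
    · rw [show a * (b * s) * a⁻¹ * (b * s)⁻¹ = (a * b * a⁻¹ * b⁻¹) * (b * (a * s * a⁻¹ * s⁻¹) * b⁻¹) by group,
        C.coord.part_comm ha hb, mul_inv_cancel_right, mul_inv_cancel, one_mul, hm b hb _ (hc' a ha)]
      exact hc' a ha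
    · rw [show a * s * b * (a * s)⁻¹ * b⁻¹ = a * (s * b * s⁻¹ * b⁻¹) * a⁻¹ * (a * b * a⁻¹ * b⁻¹) by group,
        C.coord.part_comm ha hb, mul_inv_cancel_right, mul_inv_cancel, mul_one, hm a ha _ (hc b hb)]
      exact hc b hb
    · rw [show a * s * (b * s) * (a * s)⁻¹ * (b * s)⁻¹ =
        a * (s * b * s⁻¹ * b⁻¹) * a⁻¹ * (a * b * a⁻¹ * b⁻¹) * (b * (a * s * a⁻¹ * s⁻¹) * b⁻¹) by group,
        C.coord.part_comm ha hb, mul_inv_cancel_right, mul_inv_cancel, mul_one, hm a ha _ (hc b hb),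
        hm b hb _ (hc' a ha)]
      exact mul_mem (hc b hb) (hc' a ha)
  · rw [heq]
    have hlt : A < A ⊔ zpowers s := lt_of_le_of_ne le_sup_left fun e =>
      hsA (e ▸ mem_sup_right (mem_zpowers s) : s ∈ A)
    obtain ⟨k, hk⟩ := card_dvd_of_le (le_sup_left : A ≤ A ⊔ zpowers s)
    have hk1 : 2 ≤ k := by
      by_contra hlt2
      have hpos : 0 < Nat.card ↥(A ⊔ zpowers s) := Nat.card_pos
      have e : k = 1 := by
        rcases Nat.eq_zero_or_pos k with e | e
        · rw [hk, e, mul_zero] at hpos; omega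
        · omega
      exact hlt.ne (eq_of_le_of_card_ge le_sup_left (by rw [hk, e, mul_one]))
    rw [hk, C.coord.card_part]
    omega

/-- The normaliser of `bSub A s` does not move an element of `A` to `s`. -/
theorem not_fused {x : G} (hx : x ∈ normalizer (bSub A s : Set G)) {a : G} (ha : a ∈ A) : x * a * x⁻¹ ≠ s := by
  intro e
  obtain ⟨heq, hcom, hcard⟩ := C.centralizer_bSub_facts hs hsA h2
  have hb : bSub A s ≤ A := inf_le_left
  refine hsA (e ▸ C.fused hb inf_le_left (by rw [heq]; exact le_sup_left) inf_le_right hcom ?_ hx ha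
    (by rw [e, heq]; exact mem_sup_right (mem_zpowers s)))
  refine C.max_of_bound (by rw [heq]; exact le_sup_left) hb fun g hg => ?_
  refine (C.coord.centralizer_sixteen hg ?_).trans hcard
  rw [card_map_cg, C.coord.card_bSub hs hsA h2]

/-- A 2-subgroup containing `s` and normalising `bSub A s` is moved into `S`, with `s` outside `A`. -/
theorem exists_shift {Q : Subgroup G} (hQ : IsPGroup 2 Q) (hQN : Q ≤ normalizer (bSub A s : Set G))
    (hsQ : s ∈ Q) : ∃ g : G, Q.map (cg g) ≤ (S : Subgroup G) ∧ g * s * g⁻¹ ∉ A ∧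
      (vSub A s).map (cg g) = vSub A (g * s * g⁻¹) := by
  have hAN : A ≤ normalizer (bSub A s : Set G) := fun a ha => mem_normalizer_iff.2 fun b => by
    refine ⟨fun hb => ?_, fun hb => ?_⟩
    · rwa [C.coord.part_comm ha (mem_bSub.1 hb).1, mul_inv_cancel_right]
    · have hbA : b ∈ A := by
        have := mul_mem (mul_mem (inv_mem ha) (mem_bSub.1 hb).1) ha
        rwa [show a⁻¹ * (a * b * a⁻¹) * a = b by group] at this
      rwa [C.coord.part_comm ha hbA, mul_inv_cancel_right] at hb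
  obtain ⟨R, hAR, hRN, hR2, hmax⟩ := exists_max C.isPGroup hAN
  obtain ⟨m, hm, hmle⟩ := exists_conj_le hQN hQ hRN hR2 hmax
  obtain ⟨g, hg, hgS⟩ := C.exists_into hR2 hAR
  have hnA : g * m * s * (g * m)⁻¹ ∉ A := fun h => by
    have h1 := conj_of_normalizer (inv_mem hg) h
    rw [show g⁻¹ * (g * m * s * (g * m)⁻¹) * g⁻¹⁻¹ = m * s * m⁻¹ by group] at h1
    exact C.not_fused hs hsA h2 (inv_mem hm) h1 (by group)
  refine ⟨g * m, ?_, hnA, ?_⟩
  · rw [map_cg_mul]
    exact (map_mono hmle).trans hgS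
  · have hsS : g * m * s * (g * m)⁻¹ ∈ (S : Subgroup G) := by
      refine (map_mono hmle).trans hgS ?_
      rw [← map_cg_mul]
      exact conj_mem_map hsQ _
    have hle : (bSub A s).map (cg (g * m)) ≤ bSub A (g * m * s * (g * m)⁻¹) := by
      rintro _ ⟨b, hb, rfl⟩
      refine mem_bSub.2 ⟨?_, ?_⟩
      · show g * m * b * (g * m)⁻¹ ∈ A
        rw [show g * m * b * (g * m)⁻¹ = g * (m * b * m⁻¹) * g⁻¹ by group]
        exact conj_of_normalizer hg (mem_bSub.1 (conj_of_normalizer hm hb)).1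
      · show MulAut.conj (g * m) b * MulAut.conj (g * m) s = MulAut.conj (g * m) s * MulAut.conj (g * m) b
        rw [← map_mul, ← map_mul, (mem_bSub.1 hb).2]
    have heq := eq_of_le_of_card_ge hle (by
      rw [card_map_cg, C.coord.card_bSub hs hsA h2, C.coord.card_bSub hsS hnA
        (by rw [show g * m * s * (g * m)⁻¹ * (g * m * s * (g * m)⁻¹) = g * m * (s * s) * (g * m)⁻¹ by group, h2,
          mul_one, mul_inv_cancel])])
    rw [vSub, Subgroup.map_sup, heq, MonoidHom.map_zpowers]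
    rfl

theorem bSub_eq_inf : bSub A s = A ⊓ vSub A s := by
  refine le_antisymm (le_inf inf_le_left le_sup_left) fun y hy => ?_
  rcases (C.coord.mem_vSub hs hsA h2).1 hy.2 with h | h
  · exact h
  · have := A.mul_mem (A.inv_mem hy.1) (mem_bSub.1 h).1
    rw [inv_mul_cancel_left] at this
    exact absurd this hsA

theorem mem_bSub_of_fix {y : G} (hy : y ∈ A) (hys : y * s = s * y) : y ∈ bSub A s := mem_bSub.2 ⟨hy, hys⟩

theorem vSub_comm {v w : G} (hv : v ∈ vSub A s) (hw : w ∈ vSub A s) : v * w = w * v := by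
  have hle : vSub A s ≤ centralizer (vSub A s : Set G) := by
    refine sup_le (fun b hb => mem_centralizer_iff.2 fun w hw => ?_) (zpowers_le.2 (mem_centralizer_iff.2 fun w hw => ?_))
    · rcases (C.coord.mem_vSub hs hsA h2).1 hw with h | h
      · exact C.coord.part_comm (mem_bSub.1 h).1 (mem_bSub.1 hb).1
      · have hwA := C.coord.part_comm (mem_bSub.1 h).1 (mem_bSub.1 hb).1
        rw [mul_assoc, ← (mem_bSub.1 hb).2, ← mul_assoc, ← mul_assoc] at hwA
        exact mul_right_cancel hwA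
    · rcases (C.coord.mem_vSub hs hsA h2).1 hw with h | h
      · exact (mem_bSub.1 h).2
      · have := (mem_bSub.1 h).2
        rw [← mul_assoc] at this
        exact mul_right_cancel this
  exact (mem_centralizer_iff.1 (hle hw) v hv)

theorem cSub_le_normalizer : cSub (S : Subgroup G) s ≤ normalizer (bSub A s : Set G) := fun y hy => by
  refine normalizer_of_map_le ?_
  rintro _ ⟨b, hb, rfl⟩
  refine mem_bSub.2 ⟨C.coord.normal hy.1 (mem_bSub.1 hb).1, ?_⟩
  show (MulAut.conj y b) * s = s * MulAut.conj y b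
  have e : MulAut.conj y s = s := by
    show y * s * y⁻¹ = s
    rw [(mem_cSub.1 hy).2, mul_inv_cancel_right]
  conv_lhs => rw [← e]
  conv_rhs => rw [← e]
  rw [← map_mul, ← map_mul, (mem_bSub.1 hb).2]

theorem cSub_le_nm : cSub (S : Subgroup G) s ≤ (S : Subgroup G) ⊓ normalizer (vSub A s : Set G) := fun y hy =>
  ⟨hy.1, C.coord.near_le_normalizer hs hsA h2 hy.1 (by
    rw [(mem_cSub.1 hy).2, mul_inv_cancel_right, mul_inv_cancel]; exact one_mem _)⟩

end Outside

end Config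

end Cfsg.Lib.MTwentyFourNormal
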