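import Cfsg.Agent.MTwentyFourNormal.Table

/-!
Coordinates in a Sylow 2-subgroup of the type of the Mathieu group of degree 24 modulo its centre: the subgroups
attached to an involution outside the abelian subgroup of order 64.
-/

set_option autoImplicit false
set_option maxRecDepth 4000
set_option linter.unusedSectionVars false
set_option linter.style.haveILetI false

namespace Cfsg.Lib.MTwentyFourNormal

open Subgroup
open Cfsg.Lib.Classical.MTwentyFour (bxor phi tab law facts)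

universe u

variable {G : Type u} [Group G]

/-- Coordinates on `S`, with `A` the abelian part. -/
structure Coord (S A : Subgroup G) where
  el : Fin 64 × Fin 8 → G
  inj : Function.Injective el
  mul : ∀ x y, el x * el y = el (law tab phi x y)
  mem_iff : ∀ g, g ∈ S ↔ ∃ x, el x = g
  mem_part : ∀ g, g ∈ A ↔ ∃ a, el (a, 0) = g

/-- The fixed points of `s` in `A`. -/
def bSub (A : Subgroup G) (s : G) : Subgroup G := A ⊓ centralizer ({s} : Set G)

/-- The centraliser of `s` in `S`. -/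
def cSub (S : Subgroup G) (s : G) : Subgroup G := S ⊓ centralizer ({s} : Set G)

/-- The subgroup generated by the fixed points of `s` and `s`. -/
def vSub (A : Subgroup G) (s : G) : Subgroup G := bSub A s ⊔ zpowers s

/-- An element of `S` which is central modulo `A`. -/
def Cen (S A : Subgroup G) (s : G) : Prop := ∀ x ∈ S, x * s * x⁻¹ * s⁻¹ ∈ A

/-- An element with at most two conjugates under `C`. -/
def Short (C : Subgroup G) (b : G) : Prop := ∃ b' : G, ∀ y ∈ C, y * b * y⁻¹ = b ∨ y * b * y⁻¹ = b'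

theorem mem_bSub {A : Subgroup G} {s b : G} : b ∈ bSub A s ↔ b ∈ A ∧ b * s = s * b := by
  rw [bSub, mem_inf, mem_centralizer_singleton_iff]

theorem mem_cSub {S : Subgroup G} {s b : G} : b ∈ cSub S s ↔ b ∈ S ∧ b * s = s * b := by
  rw [cSub, mem_inf, mem_centralizer_singleton_iff]

theorem bxor_self (a : Fin 64) : bxor a a = 0 := (facts.p0 a).2.2.2

theorem zero_bxor (a : Fin 64) : bxor 0 a = a := (facts.p0 a).2.1

theorem bxor_zero (a : Fin 64) : bxor a 0 = a := (facts.p0 a).2.2.1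

theorem phi_zero (a : Fin 64) : phi 0 a = a := (facts.p0 a).1

theorem zero_tab (k : Fin 8) : tab 0 k = k := (facts.t0 k).1

theorem tab_zero (k : Fin 8) : tab k 0 = k := (facts.t0 k).2

theorem phi_at_zero (h : Fin 8) : phi h 0 = 0 := facts.pz h

theorem bxor_eq_zero {a b : Fin 64} (h : bxor a b = 0) : a = b :=
  facts.xcancel a _ _ ((bxor_self a).trans h.symm)

namespace Coord

variable {S A : Subgroup G} (K : Coord S A)
include K

theorem el_zero : K.el (0, 0) = 1 :=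
  mul_eq_left.1 (show K.el (0, 0) * K.el (0, 0) = K.el (0, 0) by rw [K.mul, law, phi_zero, bxor_zero, zero_tab])

theorem el_mem (x : Fin 64 × Fin 8) : K.el x ∈ S := (K.mem_iff _).2 ⟨x, rfl⟩

theorem el_part (a : Fin 64) : K.el (a, 0) ∈ A := (K.mem_part _).2 ⟨a, rfl⟩

theorem el_part_iff {a : Fin 64} {h : Fin 8} : K.el (a, h) ∈ A ↔ h = 0 := by
  refine ⟨fun hm => ?_, fun e => e ▸ K.el_part a⟩
  obtain ⟨b, hb⟩ := (K.mem_part _).1 hm
  exact (congrArg Prod.snd (K.inj hb)).symm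

theorem le : A ≤ S := fun g hg => by
  obtain ⟨a, rfl⟩ := (K.mem_part g).1 hg
  exact K.el_mem _

theorem commute_iff {x y : Fin 64 × Fin 8} : K.el x * K.el y = K.el y * K.el x ↔ Com x y := by
  rw [K.mul, K.mul]
  exact K.inj.eq_iff

theorem part_mul (a b : Fin 64) : K.el (a, 0) * K.el (b, 0) = K.el (bxor a b, 0) := by
  rw [K.mul, law, phi_zero, zero_tab]

theorem part_sq {a : G} (ha : a ∈ A) : a * a = 1 := by
  obtain ⟨b, rfl⟩ := (K.mem_part a).1 ha
  rw [K.part_mul, bxor_self, K.el_zero]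

theorem part_comm {a b : G} (ha : a ∈ A) (hb : b ∈ A) : a * b = b * a := by
  obtain ⟨a, rfl⟩ := (K.mem_part a).1 ha
  obtain ⟨b, rfl⟩ := (K.mem_part b).1 hb
  rw [K.part_mul, K.part_mul, facts.xcomm]

theorem conj_part (c : Fin 64) (h : Fin 8) (a : Fin 64) :
    K.el (c, h) * K.el (a, 0) * (K.el (c, h))⁻¹ = K.el (phi h a, 0) := by
  rw [mul_inv_eq_iff_eq_mul, K.mul, K.mul, law, law, phi_zero, tab_zero, zero_tab, facts.xcomm]

theorem cmt_part (c : Fin 64) (h : Fin 8) (a : Fin 64) :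
    K.el (c, h) * K.el (a, 0) * (K.el (c, h))⁻¹ * (K.el (a, 0))⁻¹ = K.el (cmt h a, 0) := by
  rw [K.conj_part, inv_eq_of_mul_eq_one_left (K.part_sq (K.el_part a)), K.part_mul, cmt, facts.xcomm]

theorem commute_part {c : Fin 64} {h : Fin 8} {a : Fin 64} :
    K.el (a, 0) * K.el (c, h) = K.el (c, h) * K.el (a, 0) ↔ phi h a = a := by
  rw [eq_comm, ← mul_inv_eq_iff_eq_mul, K.conj_part, K.inj.eq_iff, Prod.mk.injEq, and_iff_left rfl]

theorem sq (c : Fin 64) (h : Fin 8) : K.el (c, h) * K.el (c, h) = K.el (bxor c (phi h c), tab h h) := by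
  rw [K.mul, law]

theorem sq_eq_one {c : Fin 64} {h : Fin 8} :
    K.el (c, h) * K.el (c, h) = 1 ↔ phi h c = c ∧ tab h h = 0 := by
  rw [K.sq, ← K.el_zero, K.inj.eq_iff, Prod.mk.injEq]
  exact and_congr_left fun _ => ⟨fun e => (bxor_eq_zero e).symm, fun e => by rw [e, bxor_self]⟩

/-- The elements in the coset of an element. -/
theorem mul_mem_part {a b : Fin 64} {h k : Fin 8} : K.el (a, h) * (K.el (b, k))⁻¹ ∈ A ↔ h = k := by
  constructor
  · intro hm
    obtain ⟨d, hd⟩ := (K.mem_part _).1 hm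
    rw [eq_mul_inv_iff_mul_eq, K.mul, K.inj.eq_iff, law, Prod.mk.injEq, zero_tab] at hd
    exact hd.2.symm
  · rintro rfl
    have e : K.el (bxor a b, 0) * K.el (b, h) = K.el (a, h) := by
      rw [K.mul, law, phi_zero, zero_tab, bxor_assoc, bxor_self, bxor_zero]
    rw [← e, mul_inv_cancel_right]
    exact K.el_part _

/-- Two elements commute modulo `A`. -/
theorem cmt_mem {a b : Fin 64} {h k : Fin 8} :
    K.el (a, h) * K.el (b, k) * (K.el (a, h))⁻¹ * (K.el (b, k))⁻¹ ∈ A ↔ tab h k = tab k h := by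
  rw [show K.el (a, h) * K.el (b, k) * (K.el (a, h))⁻¹ * (K.el (b, k))⁻¹ =
    K.el (a, h) * K.el (b, k) * (K.el (b, k) * K.el (a, h))⁻¹ by group, K.mul, K.mul]
  exact K.mul_mem_part

theorem cen_iff {c : Fin 64} {h : Fin 8} : Cen S A (K.el (c, h)) ↔ ∀ k, tab h k = tab k h := by
  refine ⟨fun hc k => (K.cmt_mem.1 (hc _ (K.el_mem (0, k)))).symm, fun hc x hx => ?_⟩
  obtain ⟨⟨b, k⟩, rfl⟩ := (K.mem_iff x).1 hx
  exact K.cmt_mem.2 (hc k).symm

theorem normal {x : G} (hx : x ∈ S) {a : G} (ha : a ∈ A) : x * a * x⁻¹ ∈ A := by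
  obtain ⟨⟨c, h⟩, rfl⟩ := (K.mem_iff x).1 hx
  obtain ⟨a, rfl⟩ := (K.mem_part a).1 ha
  rw [K.conj_part]
  exact K.el_part _

theorem le_normalizer : S ≤ normalizer (A : Set G) := fun x hx => mem_normalizer_iff.2 fun a =>
  ⟨K.normal hx, fun h => by
    have := K.normal (inv_mem hx) h
    rwa [inv_inv, show x⁻¹ * (x * a * x⁻¹) * x = a by group] at this⟩

theorem card_part : Nat.card A = 64 := by
  rw [← Nat.card_eq_of_bijective (fun a : Fin 64 => (⟨K.el (a, 0), K.el_part a⟩ : A))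
    ⟨fun a b h => congrArg Prod.fst (K.inj (congrArg Subtype.val h)), fun g => ?_⟩, Nat.card_fin]
  obtain ⟨a, ha⟩ := (K.mem_part _).1 g.2
  exact ⟨a, Subtype.ext ha⟩

theorem card_eq : Nat.card S = 512 := by
  rw [← Nat.card_eq_of_bijective (fun x => (⟨K.el x, K.el_mem x⟩ : S))
    ⟨fun a b h => K.inj (congrArg Subtype.val h), fun g => ?_⟩, Nat.card_prod, Nat.card_fin, Nat.card_fin]
  obtain ⟨x, hx⟩ := (K.mem_iff _).1 g.2
  exact ⟨x, Subtype.ext hx⟩

/-- Counting through coordinates. -/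
theorem card_of_pred (H : Subgroup G) (hH : H ≤ S) (p : Fin 64 × Fin 8 → Prop) [DecidablePred p]
    (h : ∀ x, K.el x ∈ H ↔ p x) : Nat.card H = (Finset.univ.filter p).card := by
  rw [← Nat.card_eq_of_bijective
    (fun x : {x // x ∈ Finset.univ.filter p} => (⟨K.el x, (h x).2 (Finset.mem_filter.1 x.2).2⟩ : H))
    ⟨fun a b e => Subtype.ext (K.inj (congrArg Subtype.val e)), fun g => ?_⟩, Nat.card_eq_fintype_card,
    Fintype.card_coe]
  obtain ⟨x, hx⟩ := (K.mem_iff _).1 (hH g.2)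
  exact ⟨⟨x, Finset.mem_filter.2 ⟨Finset.mem_univ _, (h x).1 (hx ▸ g.2)⟩⟩, Subtype.ext hx⟩

/-- Counting in `A`. -/
theorem card_of_pred_part (H : Subgroup G) (hH : H ≤ A) (p : Fin 64 → Prop) [DecidablePred p]
    (h : ∀ a, K.el (a, 0) ∈ H ↔ p a) : Nat.card H = (Finset.univ.filter p).card := by
  rw [← Nat.card_eq_of_bijective
    (fun x : {x // x ∈ Finset.univ.filter p} => (⟨K.el (x.1, 0), (h x).2 (Finset.mem_filter.1 x.2).2⟩ : H))
    ⟨fun a b e => Subtype.ext (congrArg Prod.fst (K.inj (congrArg Subtype.val e))), fun g => ?_⟩,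
    Nat.card_eq_fintype_card, Fintype.card_coe]
  obtain ⟨x, hx⟩ := (K.mem_part _).1 (hH g.2)
  exact ⟨⟨x, Finset.mem_filter.2 ⟨Finset.mem_univ _, (h x).1 (hx ▸ g.2)⟩⟩, Subtype.ext hx⟩

theorem el_bSub {a : Fin 64} {c : Fin 64} {h : Fin 8} :
    K.el (a, 0) ∈ bSub A (K.el (c, h)) ↔ phi h a = a := by
  rw [mem_bSub, and_iff_right (K.el_part a), K.commute_part]

/-- Coordinates of an involution outside `A`. -/
theorem exists_coord {s : G} (hs : s ∈ S) (hsA : s ∉ A) (h2 : s * s = 1) :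
    ∃ c h, h ≠ 0 ∧ tab h h = 0 ∧ phi h c = c ∧ K.el (c, h) = s := by
  obtain ⟨⟨c, h⟩, rfl⟩ := (K.mem_iff s).1 hs
  obtain ⟨h1, h2⟩ := K.sq_eq_one.1 h2
  exact ⟨c, h, fun e => hsA (K.el_part_iff.2 e), h2, h1, rfl⟩

variable {s : G} (hs : s ∈ S) (hsA : s ∉ A) (h2 : s * s = 1)
include hs hsA h2

theorem card_bSub : Nat.card (bSub A s) = 16 := by
  obtain ⟨c, h, h0, hh, -, rfl⟩ := K.exists_coord hs hsA h2
  rw [K.card_of_pred_part (bSub A (K.el (c, h))) inf_le_left (fun a => phi h a = a) fun a => K.el_bSub,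
    fix_card h h0 hh]

theorem mem_vSub {y : G} : y ∈ vSub A s ↔ y ∈ bSub A s ∨ y * s ∈ bSub A s := by
  refine ⟨fun hy => ?_, ?_⟩
  · have hn : zpowers s ≤ normalizer (bSub A s : Set G) := zpowers_le.2 (mem_normalizer_iff.2 fun b => by
      have key : ∀ b ∈ bSub A s, s * b * s⁻¹ = b := fun b hb => by rw [← (mem_bSub.1 hb).2, mul_inv_cancel_right]
      refine ⟨fun hb => (key b hb).symm ▸ hb, fun hb => ?_⟩
      have h1 := key _ hb
      rw [inv_eq_of_mul_eq_one_left h2, show s * (s * b * s) * s = s * s * b * (s * s) by group, h2, one_mul,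
        mul_one] at h1
      exact h1 ▸ (show s * b * s ∈ bSub A s by rwa [inv_eq_of_mul_eq_one_left h2] at hb))
    rw [vSub, Cfsg.Lib.Coprime.mem_sup_of_le_normalizer' hn] at hy
    obtain ⟨z, hz, b, hb, rfl⟩ := hy
    obtain ⟨k, rfl⟩ := mem_zpowers_iff.1 hz
    rcases Int.even_or_odd k with ⟨j, rfl⟩ | ⟨j, rfl⟩
    · left
      rw [← two_mul, _root_.zpow_mul, _root_.zpow_two, h2, one_zpow, one_mul]
      exact hb
    · right
      rw [zpow_add, _root_.zpow_mul, _root_.zpow_two, h2, one_zpow, one_mul, zpow_one, mul_assoc,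
        (mem_bSub.1 hb).2, ← mul_assoc, h2, one_mul]
      exact hb
  · rintro (h | h)
    · exact mem_sup_left h
    · have := mul_mem (mem_sup_left (T := zpowers s) h) (mem_sup_right (S := bSub A s) (mem_zpowers s))
      rwa [mul_assoc, h2, mul_one] at this

theorem vSub_le : vSub A s ≤ S := sup_le (inf_le_left.trans K.le) (zpowers_le.2 hs)

theorem near_iff {a : Fin 64} {k : Fin 8} {c : Fin 64} {h : Fin 8} (e : K.el (c, h) = s) :
    K.el (a, k) * s * (K.el (a, k))⁻¹ * s⁻¹ ∈ A ↔ tab h k = tab k h := by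
  subst e
  rw [K.cmt_mem, eq_comm]

theorem near_inv {x : G} (hx : x ∈ S) (hn : x * s * x⁻¹ * s⁻¹ ∈ A) : x⁻¹ * s * x⁻¹⁻¹ * s⁻¹ ∈ A := by
  have h1 := K.normal (inv_mem hx) (inv_mem hn)
  rwa [show x⁻¹ * (x * s * x⁻¹ * s⁻¹)⁻¹ * x⁻¹⁻¹ = x⁻¹ * s * x⁻¹⁻¹ * s⁻¹ by group] at h1

/-- An element commuting with `s` modulo `A` maps `bSub A s` and `s` into `vSub A s`. -/
theorem conj_mem_vSub {x : G} (hx : x ∈ S) (hn : x * s * x⁻¹ * s⁻¹ ∈ A) {v : G} (hv : v ∈ vSub A s) :
    x * v * x⁻¹ ∈ vSub A s := by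
  obtain ⟨c, h, h0, hh, hc, rfl⟩ := K.exists_coord hs hsA h2
  obtain ⟨⟨a, k⟩, rfl⟩ := (K.mem_iff x).1 hx
  have hk := (K.near_iff hs hsA h2 rfl).1 hn
  have hle : vSub A (K.el (c, h)) ≤ (vSub A (K.el (c, h))).comap (MulAut.conj (K.el (a, k))).toMonoidHom := by
    refine sup_le (fun b hb => ?_) (zpowers_le.2 ?_)
    · obtain ⟨b, rfl⟩ := (K.mem_part b).1 hb.1
      show K.el (a, k) * K.el (b, 0) * (K.el (a, k))⁻¹ ∈ vSub A (K.el (c, h))
      rw [K.conj_part]
      exact mem_sup_left (K.el_bSub.2 ((fix_stable h k hk hh b).2 (K.el_bSub.1 hb)))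
    · show K.el (a, k) * K.el (c, h) * (K.el (a, k))⁻¹ ∈ vSub A (K.el (c, h))
      refine (K.mem_vSub hs hsA h2).2 (Or.inr ?_)
      have e : K.el (a, k) * K.el (c, h) * (K.el (a, k))⁻¹ * K.el (c, h) = K.el (bxor (cmt h a) (cmt k c), 0) := by
        rw [← mul_left_inj (K.el (c, h)), mul_assoc _ (K.el (c, h)) (K.el (c, h)), h2, mul_one,
          mul_inv_eq_iff_eq_mul, K.mul, K.mul, K.mul, law, law, law, phi_zero, zero_tab, hk, cmt, cmt]
        refine congrArg K.el (Prod.ext ?_ rfl)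
        rw [bxor_assoc (bxor a (phi h a)), bxor_assoc c (phi k c) c, facts.xcomm (phi k c) c, ← bxor_assoc c c,
          bxor_self, zero_bxor, bxor_assoc (bxor a (phi h a)) (phi k c), facts.xcomm (phi k c) (phi h a),
          bxor_assoc a, ← bxor_assoc (phi h a) (phi h a), bxor_self, zero_bxor]
      rw [e, K.el_bSub, phi_bxor, (fix_stable h h rfl hh a).1, (fix_stable h k hk hh c).1]
  exact hle hv

theorem near_le_normalizer {x : G} (hx : x ∈ S) (hn : x * s * x⁻¹ * s⁻¹ ∈ A) :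
    x ∈ normalizer (vSub A s : Set G) := by
  refine mem_normalizer_iff.2 fun v => ⟨K.conj_mem_vSub hs hsA h2 hx hn, fun hv => ?_⟩
  have h1 := K.conj_mem_vSub hs hsA h2 (inv_mem hx) (K.near_inv hs hsA h2 hx hn) hv
  rwa [show x⁻¹ * (x * v * x⁻¹) * x⁻¹⁻¹ = v by group] at h1

theorem near_of_normalizer {x : G} (hx : x ∈ S) (hxn : x ∈ normalizer (vSub A s : Set G)) :
    x * s * x⁻¹ * s⁻¹ ∈ A := by
  have h1 := (mem_normalizer_iff.1 hxn s).1 (mem_sup_right (S := bSub A s) (mem_zpowers s))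
  rcases (K.mem_vSub hs hsA h2).1 h1 with hb | hb
  · have h3 := K.normal (inv_mem hx) (mem_bSub.1 hb).1
    rw [show x⁻¹ * (x * s * x⁻¹) * x⁻¹⁻¹ = s by group] at h3
    exact absurd h3 hsA
  · rw [inv_eq_of_mul_eq_one_left h2]
    exact (mem_bSub.1 hb).1

/-- The centraliser of `s` has order 128 or 64. -/
theorem card_cSub : (Cen S A s → Nat.card (cSub S s) = 128) ∧ (¬ Cen S A s → Nat.card (cSub S s) = 64) := by
  obtain ⟨c, h, h0, hh, hc, rfl⟩ := K.exists_coord hs hsA h2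
  rw [K.cen_iff]
  have e := K.card_of_pred (cSub S (K.el (c, h))) inf_le_left (fun y => Com (c, h) y) fun y => by
    rw [mem_cSub, and_iff_right (K.el_mem y), K.commute_iff, Com, eq_comm]
  exact ⟨fun hcen => e.trans (centr_central c h h0 hh hc hcen),
    fun hcen => e.trans (centr_noncentral c h h0 hh hc hcen)⟩

/-- The normaliser of `vSub A s` in `S`. -/
theorem card_nm : (Cen S A s → S ≤ normalizer (vSub A s : Set G)) ∧
    (¬ Cen S A s → Nat.card (S ⊓ normalizer (vSub A s : Set G) : Subgroup G) = 256) := by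
  refine ⟨fun hcen x hx => K.near_le_normalizer hs hsA h2 hx (hcen x hx), ?_⟩
  obtain ⟨c, h, h0, hh, hc, rfl⟩ := K.exists_coord hs hsA h2
  rw [K.cen_iff]
  intro hcen
  rw [K.card_of_pred _ inf_le_left (fun y => tab h y.2 = tab y.2 h) fun y => ?_]
  · have e : (Finset.univ.filter fun y : Fin 64 × Fin 8 => tab h y.2 = tab y.2 h) =
        Finset.univ ×ˢ Finset.univ.filter fun k : Fin 8 => tab h k = tab k h := by
      ext y; simp
    rw [e, Finset.card_product, (central_card h h0 hh).resolve_left hcen, Finset.card_univ, Fintype.card_fin]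
  · rw [mem_inf, and_iff_right (K.el_mem y)]
    exact ⟨fun hn => (K.near_iff hs hsA h2 rfl).1 (K.near_of_normalizer hs hsA h2 (K.el_mem y) hn),
      fun hk => K.near_le_normalizer hs hsA h2 (K.el_mem y) ((K.near_iff hs hsA h2 rfl).2 hk)⟩

/-- The squares of the normaliser of `vSub A s` lie in it. -/
theorem sq_nm {x : G} (hx : x ∈ S) (hxn : x ∈ normalizer (vSub A s : Set G)) : x * x ∈ vSub A s := by
  have hn := K.near_of_normalizer hs hsA h2 hx hxn
  obtain ⟨c, h, h0, hh, hc, rfl⟩ := K.exists_coord hs hsA h2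
  obtain ⟨⟨a, k⟩, rfl⟩ := (K.mem_iff x).1 hx
  have hk := (K.near_iff hs hsA h2 rfl).1 hn
  have hfix : phi h (cmt k a) = cmt k a := (fix_stable h k hk hh a).1
  rw [K.sq]
  rcases square h k h0 hh hk with e | e
  · rw [e]
    exact mem_sup_left (K.el_bSub.2 hfix)
  · rw [e]
    refine (K.mem_vSub hs hsA h2).2 (Or.inr ?_)
    rw [K.mul, law, hh, K.el_bSub, phi_bxor, show phi h (phi h c) = c by rw [hc, hc],
      show phi h (bxor a (phi k a)) = bxor a (phi k a) from hfix, hc]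

/-- The elements of `S` centralising `bSub A s`. -/
theorem centralizer_bSub {x : G} (hx : x ∈ S) (hc : ∀ b ∈ bSub A s, x * b = b * x) : x ∈ A ∨ x * s ∈ A := by
  obtain ⟨c, h, h0, hh, hcc, rfl⟩ := K.exists_coord hs hsA h2
  obtain ⟨⟨a, k⟩, rfl⟩ := (K.mem_iff x).1 hx
  rcases fix_centr h k h0 hh (fun b hb => K.commute_part.1 (hc _ (K.el_bSub.2 hb)).symm) with e | e
  · exact Or.inl (K.el_part_iff.2 e)
  · right
    rw [← inv_eq_of_mul_eq_one_left h2]
    exact K.mul_mem_part.2 e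

/-- Two commutators of `s` and their product are non-trivial and fixed by `s`. -/
theorem exists_cmt_pair : ∃ a ∈ A, ∃ b ∈ A, s * a * s⁻¹ * a⁻¹ ≠ 1 ∧ s * b * s⁻¹ * b⁻¹ ≠ 1 ∧
    s * (a * b) * s⁻¹ * (a * b)⁻¹ ≠ 1 := by
  obtain ⟨c, h, h0, hh, hc, rfl⟩ := K.exists_coord hs hsA h2
  obtain ⟨a, b, e1, e2, e3⟩ := cmt_pair h h0
  refine ⟨_, K.el_part a, _, K.el_part b, ?_, ?_, ?_⟩
  all_goals rw [← K.el_zero]
  · rw [K.cmt_part]; exact fun e => e1 (congrArg Prod.fst (K.inj e))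
  · rw [K.cmt_part]; exact fun e => e2 (congrArg Prod.fst (K.inj e))
  · rw [K.part_mul, K.cmt_part]; exact fun e => e3 (congrArg Prod.fst (K.inj e))

/-- A commutator of `s` with `A` is fixed by `s`. -/
theorem cmt_mem_bSub {a : G} (ha : a ∈ A) : s * a * s⁻¹ * a⁻¹ ∈ bSub A s := by
  obtain ⟨c, h, h0, hh, hc, rfl⟩ := K.exists_coord hs hsA h2
  obtain ⟨a, rfl⟩ := (K.mem_part a).1 ha
  rw [K.cmt_part, K.el_bSub]
  exact (fix_stable h h rfl hh a).1

/-- For a central involution an element of the centraliser outside `vSub A s` has more than two conjugates. -/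
theorem not_short (hcen : Cen S A s) {x : G} (hx : x ∈ cSub S s) (hxA : x ∉ A) (hxs : x * s ∉ A) :
    ¬ Short (cSub S s) x := by
  rintro ⟨x', hx'⟩
  have hk := K.card_cSub hs hsA h2
  obtain ⟨c, h, h0, hh, hc, rfl⟩ := K.exists_coord hs hsA h2
  obtain ⟨⟨a, k⟩, rfl⟩ := (K.mem_iff x).1 hx.1
  have hcen' := K.cen_iff.1 hcen
  have hk0 : k ≠ 0 := fun e => hxA (K.el_part_iff.2 e)
  have hkh : k ≠ h := fun e => hxs (by rw [← inv_eq_of_mul_eq_one_left h2]; exact K.mul_mem_part.2 e)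
  obtain ⟨⟨b, hb, hbk⟩, l, hl⟩ := central_moves h k h0 hcen' hk0 hkh
  have hbC : K.el (b, 0) ∈ cSub S (K.el (c, h)) := mem_cSub.2 ⟨K.el_mem _, K.commute_part.2 hb⟩
  -- every coset of `A` meets the centraliser
  obtain ⟨d, hd⟩ : ∃ d, K.el (d, l) ∈ cSub S (K.el (c, h)) := by
    obtain ⟨d, hd⟩ := centr_lift c h l h0 hh hc hcen'
    exact ⟨d, mem_cSub.2 ⟨K.el_mem _, (K.commute_iff.2 hd).symm⟩⟩
  have e1 := hx' _ hbC
  have e2 := hx' _ hd
  have n1 : K.el (b, 0) * K.el (a, k) * (K.el (b, 0))⁻¹ ≠ K.el (a, k) := fun e =>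
    hbk (K.commute_part.1 (mul_inv_eq_iff_eq_mul.1 e))
  have m1 : K.el (b, 0) * K.el (a, k) * (K.el (b, 0))⁻¹ * (K.el (a, k))⁻¹ ∈ A := K.cmt_mem.2 (by
    rw [zero_tab, tab_zero])
  have m2 : K.el (d, l) * K.el (a, k) * (K.el (d, l))⁻¹ * (K.el (a, k))⁻¹ ∉ A := fun hm =>
    hl (K.cmt_mem.1 hm).symm
  rcases e2 with e2 | e2
  · rw [e2, mul_inv_cancel] at m2
    exact m2 (one_mem A)
  · rw [e2, ← e1.resolve_left n1] at m2
    exact m2 m1

/-- For a central involution the fixed points are spanned by the short ones. -/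
theorem exists_short (hcen : Cen S A s) {b : G} (hb : b ∈ bSub A s) :
    ∃ b₁ ∈ bSub A s, ∃ b₂ ∈ bSub A s, Short (cSub S s) b₁ ∧ Short (cSub S s) b₂ ∧ b = b₁ * b₂ := by
  obtain ⟨c, h, h0, hh, hc, rfl⟩ := K.exists_coord hs hsA h2
  obtain ⟨b, rfl⟩ := (K.mem_part b).1 hb.1
  obtain ⟨b₁, b₂, e, f1, f2, g1, g2⟩ := central_span h h0 (K.cen_iff.1 hcen) b (K.el_bSub.1 hb)
  have key : ∀ a, (Finset.univ.image fun l : Fin 8 => phi l a).card ≤ 2 →
      Short (cSub S (K.el (c, h))) (K.el (a, 0)) := fun a ha => by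
    by_cases hex : ∃ l, phi l a ≠ a
    · obtain ⟨l, hl⟩ := hex
      refine ⟨K.el (phi l a, 0), fun y hy => ?_⟩
      obtain ⟨⟨d, m⟩, rfl⟩ := (K.mem_iff y).1 hy.1
      rw [K.conj_part, K.inj.eq_iff, K.inj.eq_iff, Prod.mk.injEq, Prod.mk.injEq, and_iff_left rfl,
        and_iff_left rfl]
      by_contra hcon
      push Not at hcon
      have hsub : ({a, phi l a, phi m a} : Finset (Fin 64)) ⊆ Finset.univ.image fun l : Fin 8 => phi l a := by
        intro x hx
        simp only [Finset.mem_insert, Finset.mem_singleton] at hx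
        rcases hx with rfl | rfl | rfl
        · exact Finset.mem_image.2 ⟨0, Finset.mem_univ _, phi_zero _⟩
        · exact Finset.mem_image.2 ⟨l, Finset.mem_univ _, rfl⟩
        · exact Finset.mem_image.2 ⟨m, Finset.mem_univ _, rfl⟩
      have h3 := (Finset.card_le_card hsub).trans ha
      rw [Finset.card_insert_of_notMem (by simp [hl.symm, hcon.1.symm]), Finset.card_insert_of_notMem
        (by simp [hcon.2.symm]), Finset.card_singleton] at h3
      omega
    · push Not at hex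
      refine ⟨K.el (a, 0), fun y hy => Or.inl ?_⟩
      obtain ⟨⟨d, m⟩, rfl⟩ := (K.mem_iff y).1 hy.1
      rw [K.conj_part, hex m]
  exact ⟨_, K.el_bSub.2 f1, _, K.el_bSub.2 f2, key _ g1, key _ g2, by rw [K.part_mul, e]⟩

/-- For a non-central involution: the central element, the common fixed points, and the commutators. -/
theorem noncentral_data (hcen : ¬ Cen S A s) : ∃ z ∈ cSub S s, Cen S A z ∧ z ∉ A ∧ z * s ∉ A ∧
    Nat.card (bSub A s ⊓ centralizer ({z} : Set G) : Subgroup G) = 8 ∧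
    (∀ x ∈ S ⊓ normalizer (vSub A s : Set G), (∀ b ∈ bSub A s ⊓ centralizer ({z} : Set G), x * b = b * x) ∧
      (x ∈ A ∨ x * s ∈ A ∨ x * z ∈ A ∨ x * (z * s) ∈ A)) ∧
    ∀ x ∈ S ⊓ normalizer (vSub A s : Set G), ∀ y ∈ S ⊓ normalizer (vSub A s : Set G),
      x * y * x⁻¹ * y⁻¹ ∈ bSub A s ⊓ centralizer ({z} : Set G) := by
  obtain ⟨c, h, h0, hh, hc, rfl⟩ := K.exists_coord hs hsA h2
  have hcen' : ¬ ∀ k, tab h k = tab k h := fun e => hcen (K.cen_iff.2 e)
  obtain ⟨d, ⟨d0, dh, hdh, dcen⟩, hT⟩ := noncentral_four h h0 hh hcen'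
  obtain ⟨a, ha⟩ := noncentral_lift c h d h0 hh hc hcen' dcen
  have memT : ∀ b, K.el (b, 0) ∈ bSub A (K.el (c, h)) ⊓ centralizer ({K.el (a, d)} : Set G) ↔
      phi h b = b ∧ phi d b = b := fun b => by
    rw [mem_inf, K.el_bSub, mem_centralizer_singleton_iff, K.commute_part]
  have hnm : ∀ x ∈ S ⊓ normalizer (vSub A (K.el (c, h)) : Set G), ∃ b k, K.el (b, k) = x ∧ tab h k = tab k h := by
    intro x hx
    obtain ⟨⟨b, k⟩, rfl⟩ := (K.mem_iff x).1 hx.1
    exact ⟨b, k, rfl, (K.near_iff hs hsA h2 rfl).1 (K.near_of_normalizer hs hsA h2 hx.1 hx.2)⟩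
  refine ⟨K.el (a, d), mem_cSub.2 ⟨K.el_mem _, (K.commute_iff.2 ha).symm⟩, K.cen_iff.2 dcen,
    fun e => d0 (K.el_part_iff.1 e), fun e => dh ?_, ?_, fun x hx => ?_, fun x hx y hy => ?_⟩
  · rw [← inv_eq_of_mul_eq_one_left h2] at e
    exact K.mul_mem_part.1 e
  · rw [K.card_of_pred_part (bSub A (K.el (c, h)) ⊓ centralizer ({K.el (a, d)} : Set G))
      (inf_le_left.trans inf_le_left) (fun b => phi h b = b ∧ phi d b = b) memT, hT]
  · obtain ⟨b, k, rfl, hk⟩ := hnm x hx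
    refine ⟨fun w hw => ?_, ?_⟩
    · obtain ⟨w, rfl⟩ := (K.mem_part w).1 hw.1.1
      obtain ⟨w1, w2⟩ := (memT w).1 hw
      exact (K.commute_part.2 (noncentral_fix h d k h0 d0 dh hh hcen' dcen hk w w1 w2)).symm
    · rcases four_cases h d k h0 d0 dh hh hcen' dcen hk with e | e | e | e
      · exact Or.inl (K.el_part_iff.2 e)
      · exact Or.inr (Or.inl (by rw [← inv_eq_of_mul_eq_one_left h2]; exact K.mul_mem_part.2 e))
      · refine Or.inr (Or.inr (Or.inl ?_))
        rw [e, K.mul, law, central_inv d dcen]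
        exact K.el_part _
      · refine Or.inr (Or.inr (Or.inr ?_))
        rw [e, K.mul, K.mul, law, law, ← hdh]
        refine K.el_part_iff.2 ?_
        exact four_sq h d h0 d0 hh hcen' dcen
  · obtain ⟨b, k, rfl, hk⟩ := hnm x hx
    obtain ⟨b', l, rfl, hl⟩ := hnm y hy
    have hkl := (noncentral_comm h h0 hh hcen' k l hk hl).1
    have e : K.el (b, k) * K.el (b', l) * (K.el (b, k))⁻¹ * (K.el (b', l))⁻¹ =
        K.el (bxor (cmt l b) (cmt k b'), 0) := by
      rw [show K.el (b, k) * K.el (b', l) * (K.el (b, k))⁻¹ * (K.el (b', l))⁻¹ =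
        K.el (b, k) * K.el (b', l) * (K.el (b', l) * K.el (b, k))⁻¹ by group, mul_inv_eq_iff_eq_mul, K.mul, K.mul,
        K.mul, law, law, law, phi_zero, zero_tab, hkl, cmt, cmt]
      refine congrArg K.el (Prod.ext ?_ rfl)
      rw [bxor_assoc (bxor b (phi l b)), bxor_assoc b' (phi k b'), ← bxor_assoc (phi k b') b',
        facts.xcomm (phi k b') b', bxor_assoc b' (phi k b'), ← bxor_assoc b' b', bxor_self, zero_bxor,
        bxor_assoc b, facts.xcomm (phi k b') (phi l b), ← bxor_assoc (phi l b) (phi l b), bxor_self, zero_bxor]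
    rw [e, memT, phi_bxor, phi_bxor]
    have hdl : ∀ m, tab d m = tab m d := dcen
    rw [(fix_stable h l hl hh b).1, (fix_stable h k hk hh b').1, (fix_stable d l (hdl l) (central_inv d dcen) b).1,
      (fix_stable d k (hdl k) (central_inv d dcen) b').1]
    exact ⟨rfl, rfl⟩

omit hs hsA h2 in
/-- Subgroups of `A` of order 16 have centralisers in `S` of order at most 128. -/
theorem centralizer_sixteen {T : Subgroup G} (hT : T ≤ A) (hc : Nat.card T = 16) :
    Nat.card (S ⊓ centralizer (T : Set G) : Subgroup G) ≤ 128 := by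
  classical
  let p : Fin 64 → Prop := fun b => K.el (b, 0) ∈ T
  have hcard := K.card_of_pred_part T hT p fun a => Iff.rfl
  let q : Fin 8 → Prop := fun k => ∀ b, p b → phi k b = b
  rw [K.card_of_pred _ inf_le_left (fun y => q y.2) fun y => ?_]
  · have e : (Finset.univ.filter fun y : Fin 64 × Fin 8 => q y.2) = Finset.univ ×ˢ Finset.univ.filter q := by
      ext y; simp
    rw [e, Finset.card_product, Finset.card_univ, Fintype.card_fin]
    by_contra hlt
    obtain ⟨h, hh, k, hk, l, hl, n1, n2, n3⟩ := Finset.two_lt_card.1 (show 2 < (Finset.univ.filter q).card by omega)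
    simp only [Finset.mem_filter, Finset.mem_univ, true_and] at hh hk hl
    obtain ⟨u, v, hu, hv, u0, v0, uv⟩ : ∃ u v, q u ∧ q v ∧ u ≠ 0 ∧ v ≠ 0 ∧ u ≠ v := by
      by_cases a1 : h = 0
      · exact ⟨k, l, hk, hl, fun e => n1 (a1.trans e.symm), fun e => n2 (a1.trans e.symm), n3⟩
      by_cases a2 : k = 0
      · exact ⟨h, l, hh, hl, a1, fun e => n3 (a2.trans e.symm), n2⟩
      exact ⟨h, k, hh, hk, a1, a2, n1⟩
    have h8 := (Finset.card_le_card (fun b hb => Finset.mem_filter.2 ⟨Finset.mem_univ b,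
      hu b (Finset.mem_filter.1 hb).2, hv b (Finset.mem_filter.1 hb).2⟩ :
        Finset.univ.filter p ⊆ Finset.univ.filter fun b : Fin 64 => phi u b = b ∧ phi v b = b)).trans
      (fix_two u v u0 v0 uv)
    omega
  · rw [mem_inf, and_iff_right (K.el_mem y), mem_centralizer_iff]
    obtain ⟨c, h⟩ := y
    refine ⟨fun hy b hb => K.commute_part.1 (hy _ hb), fun hy w hw => ?_⟩
    obtain ⟨b, rfl⟩ := (K.mem_part w).1 (hT hw)
    exact K.commute_part.2 (hy b hw)

omit hs hsA h2 in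
/-- The centre of `S` meets `A` in a subgroup of order 4. -/
theorem card_fixed : Nat.card (A ⊓ centralizer (S : Set G) : Subgroup G) = 4 := by
  rw [K.card_of_pred_part _ inf_le_left (fun a => ∀ h, phi h a = a) fun a => ?_, fix_all]
  rw [mem_inf, and_iff_right (K.el_part a), mem_centralizer_iff]
  refine ⟨fun hy h => K.commute_part.1 (hy _ (K.el_mem (0, h))).symm, fun hy x hx => ?_⟩
  obtain ⟨⟨c, h⟩, rfl⟩ := (K.mem_iff x).1 hx
  exact (K.commute_part.2 (hy h)).symm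

omit hs hsA h2 in
/-- A central involution outside `A`, a commutator modulo `A`, whose commutators are the fixed points of `S`. -/
theorem exists_center : ∃ z ∈ S, z ∉ A ∧ z * z = 1 ∧ Cen S A z ∧
    (∃ x ∈ S, ∃ y ∈ S, x * y * x⁻¹ * y⁻¹ * z ∈ A) ∧
    (∀ a ∈ A, z * a * z⁻¹ * a⁻¹ ∈ A ⊓ centralizer (S : Set G)) ∧
    ∀ w ∈ A ⊓ centralizer (S : Set G), ∃ a ∈ A, z * a * z⁻¹ * a⁻¹ = w := by
  obtain ⟨d, k, l, d0, dcen, hkl⟩ := central_exists
  obtain ⟨f1, f2⟩ := central_cmt d d0 dcen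
  refine ⟨K.el (0, d), K.el_mem _, fun e => d0 (K.el_part_iff.1 e),
    K.sq_eq_one.2 ⟨phi_at_zero d, central_inv d dcen⟩, K.cen_iff.2 dcen,
    ⟨K.el (0, k), K.el_mem _, K.el (0, l), K.el_mem _, ?_⟩, fun a ha => ?_, fun w hw => ?_⟩
  · rw [show K.el (0, k) * K.el (0, l) * (K.el (0, k))⁻¹ * (K.el (0, l))⁻¹ =
      K.el (0, k) * K.el (0, l) * (K.el (0, l) * K.el (0, k))⁻¹ by group, K.mul, K.mul, law, law]
    have e : K.el (bxor 0 (phi k 0), tab k l) = K.el (0, d) * K.el (bxor 0 (phi l 0), tab l k) := by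
      rw [K.mul, law, phi_at_zero, phi_at_zero, bxor_self, phi_at_zero, bxor_self, hkl]
    rw [e, mul_inv_cancel_right, K.sq_eq_one.2 ⟨phi_at_zero d, central_inv d dcen⟩]
    exact one_mem A
  · obtain ⟨a, rfl⟩ := (K.mem_part a).1 ha
    rw [K.cmt_part, mem_inf, and_iff_right (K.el_part _), mem_centralizer_iff]
    intro x hx
    obtain ⟨⟨c, h⟩, rfl⟩ := (K.mem_iff x).1 hx
    exact (K.commute_part.2 (f1 a h)).symm
  · obtain ⟨w, rfl⟩ := (K.mem_part w).1 hw.1
    obtain ⟨a, ha⟩ := f2 w fun h => K.commute_part.1 (mem_centralizer_iff.1 hw.2 _ (K.el_mem (0, h))).symm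
    exact ⟨_, K.el_part a, by rw [K.cmt_part, ha]⟩

omit hs hsA h2 in
/-- A coset of `A` other than `A` generates an involution outside `A`. -/
theorem exists_involution {x : G} (hx : x ∈ S) (hxA : x ∉ A) :
    ∃ y ∈ A ⊔ zpowers x, y ∉ A ∧ y * y = 1 := by
  obtain ⟨⟨a, k⟩, rfl⟩ := (K.mem_iff x).1 hx
  have hk : k ≠ 0 := fun e => hxA (K.el_part_iff.2 e)
  have h1 : K.el (0, k) ∈ A ⊔ zpowers (K.el (a, k)) := by
    have := mul_mem (mem_sup_left (T := zpowers (K.el (a, k))) (K.el_part a))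
      (mem_sup_right (S := A) (mem_zpowers (K.el (a, k))))
    rwa [K.mul, law, phi_zero, zero_tab, bxor_self] at this
  rcases square_inv k hk with e | ⟨e, e'⟩
  · exact ⟨_, h1, fun hm => hk (K.el_part_iff.1 hm), K.sq_eq_one.2 ⟨phi_at_zero k, e⟩⟩
  · refine ⟨_, mul_mem h1 h1, ?_, ?_⟩
    · rw [K.mul, law, phi_at_zero, bxor_self]
      exact fun hm => e (K.el_part_iff.1 hm)
    · have e2 : K.el (0, k) * K.el (0, k) = K.el (0, tab k k) := by rw [K.mul, law, phi_at_zero, bxor_self]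
      rw [e2]
      exact K.sq_eq_one.2 ⟨phi_at_zero _, e'⟩

end Coord

end Cfsg.Lib.MTwentyFourNormal
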