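import Cfsg.Agent.MTwentyFourNormal.Strong
import Cfsg.Agent.Goldschmidt.Consequences.ThmA.Structure
import Cfsg.Agent.AbelianCentExt.Basic
import Cfsg.Agent.Small.Toolkit

/-!
A group without odd core with a Sylow 2-subgroup of the type of the Mathieu group of degree 24 modulo its centre
has the abelian subgroup of order 64 as a normal subgroup: no component can be moved by it.
-/

set_option autoImplicit false
set_option linter.unusedSectionVars false
set_option linter.style.haveILetI false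

namespace Cfsg.Lib.MTwentyFourNormal

open Subgroup
open Cfsg.Lib.Goldschmidt Cfsg.Lib.Goldschmidt.ThmA

universe u

variable {G : Type u} [Group G] [Finite G] {S : Sylow 2 G} {A : Subgroup G}

/-- The configuration with the consequence of Goldschmidt's theorem. -/
structure Setup (S : Sylow 2 G) (A : Subgroup G) : Prop where
  conf : Nonempty (Config S A)
  cfg : ThmA.Cfg S A

/-- An element of a product of components centralising them is trivial, the centres being trivial. -/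
theorem eq_one_of_pair {L L' : Subgroup G} (hL : Cfsg.IsComponent L) (hL' : Cfsg.IsComponent L')
    (hz : ∀ z ∈ L, z ∈ centralizer (L : Set G) → z = 1) (hz' : ∀ z ∈ L', z ∈ centralizer (L' : Set G) → z = 1)
    {w : G} (hw : w ∈ L ⊔ L') (hc : w ∈ centralizer (L : Set G)) (hc' : w ∈ centralizer (L' : Set G)) : w = 1 := by
  by_cases e : L = L'
  · subst e
    rw [sup_idem] at hw
    exact hz w hw hc
  have hle : L' ≤ centralizer (L : Set G) := fun x hx => comm_of_ne hL' hL (Ne.symm e) hx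
  obtain ⟨l, hl, m, hm, rfl⟩ := (Cfsg.Lib.Coprime.mem_sup_of_le_normalizer
    (hle.trans (centralizer_le_normalizer _))).1 hw
  have h1 : l = 1 := hz l hl (by
    have := mul_mem hc (inv_mem (hle hm))
    rwa [mul_inv_cancel_right] at this)
  rw [h1, one_mul] at hc' ⊢
  exact hz' m hm hc'

namespace Setup

variable (H : Setup S A)
include H

/-- The normal closure meets `S` in `A`. -/
theorem sylow_inter {x : G} (hx : x ∈ normalClosure (A : Set G)) (hxS : x ∈ (S : Subgroup G)) : x ∈ A := by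
  obtain ⟨C⟩ := H.conf
  by_contra hxA
  obtain ⟨y, hy, hyA, hy2⟩ := C.coord.exists_involution hxS hxA
  refine hyA (H.cfg.involution_mem ?_ (sup_le C.le (zpowers_le.2 hxS) hy) hy2)
  exact (sup_le subset_normalClosure (zpowers_le.2 hx) : A ⊔ zpowers x ≤ normalClosure (A : Set G)) hy

theorem comp_le {L : Subgroup G} (hL : Cfsg.IsComponent L) (hm : Mov A L) : L ≤ normalClosure (A : Set G) := by
  rw [H.cfg.normalClosure_eq]
  exact (le_movLayer hL hm).trans le_sup_left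

theorem mem_of_comp {L : Subgroup G} (hL : Cfsg.IsComponent L) (hm : Mov A L) {x : G} (hx : x ∈ L)
    (hxS : x ∈ (S : Subgroup G)) : x ∈ A := H.sylow_inter (H.comp_le hL hm hx) hxS

/-- A moved component has trivial centre. -/
theorem center_trivial {L : Subgroup G} (hL : Cfsg.IsComponent L) (hm : Mov A L) {z : G} (hz : z ∈ L)
    (hzc : z ∈ centralizer (L : Set G)) : z = 1 := by
  haveI : Fact (Nat.Prime 2) := ⟨Nat.prime_two⟩
  obtain ⟨C⟩ := H.conf
  obtain ⟨P, hP⟩ := H.cfg.base.sylow_comp hL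
  have hmem : ∀ x : ↥L, x ∈ P ↔ (x : G) ∈ (S : Subgroup G) := fun x => by
    show x ∈ (P : Subgroup ↥L) ↔ _
    rw [hP]; rfl
  obtain ⟨Q, D⟩ := H.cfg.data hL hm
  have hcen : center ↥L ≤ (P : Subgroup ↥L) := fun y hy => (hmem y).2 (C.le (D.center_le y y.2
    (mem_centralizer_iff.2 fun m hm' => congrArg Subtype.val (mem_center_iff.1 hy ⟨m, hm'⟩))))
  have hperf : commutator ↥L = ⊤ := qs_perfect hL
  have hbot := Cfsg.Lib.AbelianCentExt.eq_bot_of_abelian_sylow (center ↥L) le_rfl (P.2.to_le hcen) hperf P hcen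
    fun x hx y hy => Subtype.ext (H.cfg.comm x (H.mem_of_comp hL hm x.2 ((hmem x).1 hx)) y
      (H.mem_of_comp hL hm y.2 ((hmem y).1 hy)))
  have h1 : (⟨z, hz⟩ : ↥L) ∈ center ↥L := mem_center_iff.2 fun m => Subtype.ext (mem_centralizer_iff.1 hzc m m.2)
  rw [hbot, mem_bot] at h1
  exact congrArg Subtype.val h1

/-- An element of a product of moved components centralising them is trivial. -/
theorem eq_one_of_central (s : Finset {L // L ∈ movSet A}) : ∀ e ∈ ⨆ L ∈ s, (L : Subgroup G),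
    (∀ L ∈ s, e ∈ centralizer ((L : Subgroup G) : Set G)) → e = 1 := by
  classical
  induction s using Finset.induction_on with
  | empty => intro e he _; simpa using he
  | @insert L s hLs ih =>
    intro e he hc
    rw [Finset.iSup_insert] at he
    have hsc : ⨆ L' ∈ s, (L' : Subgroup G) ≤ centralizer ((L : Subgroup G) : Set G) := iSup₂_le fun L' hL' x hx =>
      comm_of_ne L'.2.1 L.2.1 (fun e' => hLs (by rwa [show L = L' from Subtype.ext e'.symm])) hx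
    obtain ⟨e', he', l, hl, rfl⟩ := (Cfsg.Lib.Coprime.mem_sup_of_le_normalizer'
      (hsc.trans (centralizer_le_normalizer _))).1 he
    have hl1 : l = 1 := H.center_trivial L.2.1 L.2.2 hl (by
      have := mul_mem (inv_mem (hsc he')) (hc L (Finset.mem_insert_self _ _))
      rwa [inv_mul_cancel_left] at this)
    rw [hl1, mul_one] at hc ⊢
    exact ih e' he' fun L' hL' => hc L' (Finset.mem_insert_of_mem hL')

/-- The data of a moved component inside `A`. -/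
theorem comp_facts {L : Subgroup G} (hL : Cfsg.IsComponent L) (hm : Mov A L) :
    (∀ a ∈ A, ∃ v ∈ A ⊓ L, v⁻¹ * a ∈ centralizer (L : Set G)) ∧
    4 ≤ Nat.card (A ⊓ L : Subgroup G) ∧
    ∃ r ∈ L, (∀ v ∈ A ⊓ L, r * v * r⁻¹ ∈ A ⊓ L) ∧
      (∀ v w, v ∈ A ⊓ L → w ∈ A ⊓ L → v ≠ 1 → w ≠ 1 → ∃ k : ℕ, r ^ k * v * (r ^ k)⁻¹ = w) ∧
      (∀ (k : ℕ) v, v ∈ A ⊓ L → v ≠ 1 → r ^ k * v * (r ^ k)⁻¹ = v →
        ∀ w ∈ A ⊓ L, r ^ k * w * (r ^ k)⁻¹ = w) ∧
      ∀ x ∈ (S : Subgroup G), x ∈ normalizer (L : Set G) →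
        ∃ m : ℕ, ∀ v ∈ A ⊓ L, x * r * x⁻¹ * v * (x * r * x⁻¹)⁻¹ = r ^ m * v * (r ^ m)⁻¹ := by
  haveI : Fact (Nat.Prime 2) := ⟨Nat.prime_two⟩
  obtain ⟨C⟩ := H.conf
  obtain ⟨P, D⟩ := H.cfg.data hL hm
  have hinj : ∀ a b : ↥L, zm L a = zm L b → a = b := fun a b e => by
    have h1 := H.center_trivial hL hm (mul_mem (inv_mem a.2) b.2) (zm_eq_iff.1 e)
    exact (Subtype.ext (inv_mul_eq_one.1 h1) : a = b)
  have hsur : Function.Surjective (zm L) := QuotientGroup.mk'_surjective _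
  -- the elements of `A ∩ L` are the involutions of the Sylow subgroup
  have hiff : ∀ x : ↥L, (x : G) ∈ A ⊓ L ↔ Inv (P : Subgroup (↥L ⧸ center ↥L)) (zm L x) := by
    refine fun x => ⟨fun hx => ⟨(D.mem_iff x).2 (C.le hx.1), ?_⟩, fun hx =>
      ⟨H.mem_of_comp hL hm x.2 ((D.mem_iff x).1 hx.1), x.2⟩⟩
    rw [← map_mul, show x * x = 1 from Subtype.ext (C.coord.part_sq hx.1), map_one]
  obtain ⟨i, j, hi, hj, hi1, hj1, hij⟩ := D.facts.simple.two
  obtain ⟨r, hr, -, htr, hsr, hnorm⟩ := D.facts.simple.rot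
  obtain ⟨r, rfl⟩ := hsur r
  have hinvN : ∀ g ∈ normalizer ((P : Subgroup (↥L ⧸ center ↥L)) : Set (↥L ⧸ center ↥L)), ∀ q,
      Inv (P : Subgroup (↥L ⧸ center ↥L)) q → Inv (P : Subgroup (↥L ⧸ center ↥L)) (g * q * g⁻¹) := fun g hg q hq =>
    ⟨(mem_normalizer_iff.1 hg q).1 hq.1, by
      rw [show g * q * g⁻¹ * (g * q * g⁻¹) = g * (q * q) * g⁻¹ by group, hq.2, mul_one, mul_inv_cancel]⟩
  have hpow : ∀ (k : ℕ) (x : ↥L), zm L (r ^ k * x * (r ^ k)⁻¹) = zm L r ^ k * zm L x * (zm L r ^ k)⁻¹ := fun k x => by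
    rw [map_mul, map_mul, map_inv, map_pow]
  refine ⟨fun a ha => ?_, ?_, r, r.2, fun v hv => ?_, fun v w hv hw hv1 hw1 => ?_, fun k v hv hv1 he w hw => ?_,
    fun x hx hxL => ?_⟩
  · obtain ⟨l, hl, hc⟩ := D.proj a ha
    exact ⟨l, (hiff l).2 hl, hc⟩
  · obtain ⟨v, hvA, -, hvi⟩ := D.lift i hi
    obtain ⟨w, hwA, -, hwj⟩ := D.lift j hj
    obtain ⟨k, hk⟩ := IsPGroup.iff_card.1 ((C.isPGroup (A := A)).to_le (inf_le_left : A ⊓ L ≤ A))
    have h3 : 3 ≤ Nat.card (A ⊓ L : Subgroup G) := by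
      have h2 : ({1, (v : G), (w : G)} : Set G).ncard = 3 := by
        refine Set.ncard_eq_three.2 ⟨1, v, w, fun e => hi1 ?_, fun e => hj1 ?_, fun e => hij ?_, rfl⟩
        · rw [← hvi, show v = 1 from Subtype.ext e.symm, map_one]
        · rw [← hwj, show w = 1 from Subtype.ext e.symm, map_one]
        · rw [← hvi, ← hwj, show v = w from Subtype.ext e]
      rw [← h2, ← Nat.card_coe_set_eq]
      exact Nat.card_mono (Set.toFinite _) (by
        rintro x (rfl | rfl | rfl)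
        · exact one_mem _
        · exact ⟨hvA, v.2⟩
        · exact ⟨hwA, w.2⟩)
    rcases k with _ | _ | k
    · rw [hk] at h3; norm_num at h3
    · rw [hk] at h3; norm_num at h3
    · rw [hk, pow_add, pow_add]
      have := Nat.one_le_two_pow (n := k)
      omega
  · have h1 : (r * ⟨v, hv.2⟩ * r⁻¹ : ↥L).1 ∈ A ⊓ L := (hiff _).2 (by
      rw [map_mul, map_mul, map_inv]
      exact hinvN _ hr _ ((hiff ⟨v, hv.2⟩).1 hv))
    exact h1
  · obtain ⟨k, hk⟩ := htr _ _ ((hiff ⟨v, hv.2⟩).1 hv) ((hiff ⟨w, hw.2⟩).1 hw)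
      (fun e => hv1 (congrArg Subtype.val (hinj _ _ (e.trans (map_one _).symm))))
      (fun e => hw1 (congrArg Subtype.val (hinj _ _ (e.trans (map_one _).symm))))
    exact ⟨k, by simpa using congrArg Subtype.val (hinj (r ^ k * ⟨v, hv.2⟩ * (r ^ k)⁻¹) ⟨w, hw.2⟩ ((hpow k _).trans hk))⟩
  · have h1 := hsr k _ ((hiff ⟨v, hv.2⟩).1 hv)
      (fun e => hv1 (congrArg Subtype.val (hinj _ _ (e.trans (map_one _).symm))))
      (by rw [← hpow]; exact congrArg (zm L) (Subtype.ext (by simpa using he))) _ ((hiff ⟨w, hw.2⟩).1 hw)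
    simpa using congrArg Subtype.val (hinj (r ^ k * ⟨w, hw.2⟩ * (r ^ k)⁻¹) ⟨w, hw.2⟩ ((hpow k _).trans h1))
  · have hg : x * (r : G) * x⁻¹ ∈ L := (mem_normalizer_iff.1 hxL r).1 r.2
    set g : ↥L := ⟨x * (r : G) * x⁻¹, hg⟩ with hgdef
    have hxW : ∀ v ∈ A ⊓ L, x * v * x⁻¹ ∈ A ⊓ L := fun v hv =>
      ⟨C.coord.normal hx hv.1, (mem_normalizer_iff.1 hxL v).1 hv.2⟩
    have hxW' : ∀ v ∈ A ⊓ L, x⁻¹ * v * x ∈ A ⊓ L := fun v hv => by
      have h1 := C.coord.normal (inv_mem hx) hv.1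
      have h2 := (mem_normalizer_iff.1 (inv_mem hxL) v).1 hv.2
      rw [inv_inv] at h1 h2
      exact ⟨h1, h2⟩
    have hrW : ∀ v ∈ A ⊓ L, (r : G) * v * (r : G)⁻¹ ∈ A ⊓ L := fun v hv => (hiff (r * ⟨v, hv.2⟩ * r⁻¹)).2 (by
      rw [map_mul, map_mul, map_inv]
      exact hinvN _ hr _ ((hiff ⟨v, hv.2⟩).1 hv))
    have hgi : ∀ q, Inv (P : Subgroup (↥L ⧸ center ↥L)) q →
        Inv (P : Subgroup (↥L ⧸ center ↥L)) (zm L g * q * (zm L g)⁻¹) := by
      intro q hq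
      obtain ⟨q, rfl⟩ := hsur q
      rw [← map_inv, ← map_mul, ← map_mul]
      refine (hiff _).1 ?_
      have := hxW _ (hrW _ (hxW' _ ((hiff q).2 hq)))
      rwa [show x * ((r : G) * (x⁻¹ * (q : G) * x) * (r : G)⁻¹) * x⁻¹ =
        x * (r : G) * x⁻¹ * (q : G) * (x * (r : G) * x⁻¹)⁻¹ by group] at this
    rcases hnorm (zm L g) (D.facts.simple.norm _ hgi) with ⟨m, hm'⟩ | ⟨h8, h3⟩
    · refine ⟨m, fun v hv => ?_⟩
      have h1 := hm' _ ((hiff ⟨v, hv.2⟩).1 hv)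
      rw [← hpow, ← map_inv, ← map_mul, ← map_mul] at h1
      simpa [hgdef] using congrArg Subtype.val (hinj _ _ h1)
    · exfalso
      -- the cube of `r` fixes all, so its orbits have at most three elements
      have hr3 : ∀ q, Inv (P : Subgroup (↥L ⧸ center ↥L)) q → zm L r ^ 3 * q * (zm L r ^ 3)⁻¹ = q := by
        intro q hq
        obtain ⟨q, rfl⟩ := hsur q
        have hv := hxW _ ((hiff q).2 hq)
        have h1 := h3 _ ((hiff ⟨_, hv.2⟩).1 hv)
        rw [← map_pow, ← map_inv, ← map_mul, ← map_mul] at h1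
        have h2 := congrArg Subtype.val (hinj _ _ h1)
        rw [hgdef] at h2
        simp only [Subgroup.coe_mul, Subgroup.coe_inv, SubmonoidClass.coe_pow] at h2
        rw [conj_pow, show x * (r : G) ^ 3 * x⁻¹ * (x * (q : G) * x⁻¹) * (x * (r : G) ^ 3 * x⁻¹)⁻¹ =
          x * ((r : G) ^ 3 * (q : G) * ((r : G) ^ 3)⁻¹) * x⁻¹ by group] at h2
        rw [← map_pow, ← map_inv, ← map_mul, ← map_mul]
        exact congrArg (zm L) (Subtype.ext (by simpa using mul_left_cancel (mul_right_cancel h2)))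
      have h3' : ∀ q, Inv (P : Subgroup (↥L ⧸ center ↥L)) q → ∀ n : ℕ,
          (zm L r ^ 3) ^ n * q * ((zm L r ^ 3) ^ n)⁻¹ = q := by
        intro q hq n
        induction n with
        | zero => simp
        | succ n ih =>
          rw [pow_succ', show zm L r ^ 3 * (zm L r ^ 3) ^ n * q * (zm L r ^ 3 * (zm L r ^ 3) ^ n)⁻¹ =
            zm L r ^ 3 * ((zm L r ^ 3) ^ n * q * ((zm L r ^ 3) ^ n)⁻¹) * (zm L r ^ 3)⁻¹ by group, ih, hr3 q hq]
      classical
      have hsub : {q | Inv (P : Subgroup (↥L ⧸ center ↥L)) q} ⊆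
          ↑({1, i, zm L r * i * (zm L r)⁻¹, zm L r ^ 2 * i * (zm L r ^ 2)⁻¹} : Finset (↥L ⧸ center ↥L)) := by
        intro q hq
        simp only [Finset.coe_insert, Finset.coe_singleton, Set.mem_insert_iff, Set.mem_singleton_iff]
        by_cases hq1 : q = 1
        · exact Or.inl hq1
        obtain ⟨k, hk⟩ := htr i q hi hq hi1 hq1
        rw [← Nat.mod_add_div k 3, _root_.pow_add, pow_mul,
          show zm L r ^ (k % 3) * (zm L r ^ 3) ^ (k / 3) * i * (zm L r ^ (k % 3) * (zm L r ^ 3) ^ (k / 3))⁻¹ =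
            zm L r ^ (k % 3) * ((zm L r ^ 3) ^ (k / 3) * i * ((zm L r ^ 3) ^ (k / 3))⁻¹) * (zm L r ^ (k % 3))⁻¹ by group,
          h3' i hi] at hk
        rcases (show k % 3 = 0 ∨ k % 3 = 1 ∨ k % 3 = 2 by omega) with e | e | e <;> rw [e] at hk
        · exact Or.inr (Or.inl (by rw [← hk]; simp))
        · exact Or.inr (Or.inr (Or.inl (by rw [← hk, pow_one])))
        · exact Or.inr (Or.inr (Or.inr hk.symm))
      have h4 := Set.ncard_le_ncard hsub (Finset.finite_toSet _)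
      rw [Set.ncard_coe_finset, ← Nat.card_coe_set_eq] at h4
      change Nat.card {q // Inv (P : Subgroup (↥L ⧸ center ↥L)) q} ≤ _ at h4
      rw [h8] at h4
      exact absurd (h4.trans Finset.card_le_four) (by norm_num)

omit H in
/-- Commutation with `z` on an elementary group as a homomorphism. -/
def cmtHom (C : Config S A) {z : G} (hz : z ∈ (S : Subgroup G)) (W : Subgroup G) (hW : W ≤ A) : W →* A where
  toFun v := ⟨z * (v : G) * z⁻¹ * (v : G)⁻¹, mul_mem (C.coord.normal hz (hW v.2)) (inv_mem (hW v.2))⟩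
  map_one' := Subtype.ext (by simp)
  map_mul' v w := Subtype.ext (by
    show z * ((v : G) * w) * z⁻¹ * ((v : G) * w)⁻¹ = z * v * z⁻¹ * (v : G)⁻¹ * (z * w * z⁻¹ * (w : G)⁻¹)
    have h1 := C.coord.part_comm (hW v.2) (mul_mem (C.coord.normal hz (hW w.2)) (inv_mem (hW w.2)))
    rw [show z * ((v : G) * w) * z⁻¹ * ((v : G) * w)⁻¹ =
      z * v * z⁻¹ * (z * w * z⁻¹ * (w : G)⁻¹ * (v : G)⁻¹) by group, ← show (v : G)⁻¹ * (z * w * z⁻¹ * (w : G)⁻¹) =
      z * w * z⁻¹ * (w : G)⁻¹ * (v : G)⁻¹ from C.coord.part_comm (inv_mem (hW v.2))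
        (mul_mem (C.coord.normal hz (hW w.2)) (inv_mem (hW w.2)))]
    group)

/-- The central involution on a moved component it normalises. -/
theorem card_sq {L : Subgroup G} (hL : Cfsg.IsComponent L) (hm : Mov A L) {z : G} (hz : z ∈ (S : Subgroup G))
    (hz2 : z * z = 1) (hzL : z ∈ normalizer (L : Set G)) {v₀ : G} (hv₀ : v₀ ∈ A ⊓ L) (hne : z * v₀ * z⁻¹ ≠ v₀) :
    ∃ I : Subgroup G, (∀ w, w ∈ I ↔ ∃ v ∈ A ⊓ L, z * v * z⁻¹ * v⁻¹ = w) ∧ I ≤ A ⊓ L ∧
      Nat.card I * Nat.card I = Nat.card (A ⊓ L : Subgroup G) := by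
  obtain ⟨C⟩ := H.conf
  obtain ⟨-, -, r, hr, hrW, htr, hsr, hnorm⟩ := H.comp_facts hL hm
  obtain ⟨m, hm'⟩ := hnorm z hz hzL
  set W := A ⊓ L
  set δ := cmtHom C hz W inf_le_left
  have hzW : ∀ v ∈ W, z * v * z⁻¹ ∈ W := fun v hv => ⟨C.coord.normal hz hv.1, (mem_normalizer_iff.1 hzL v).1 hv.2⟩
  set I := δ.range.map A.subtype with hI
  have hmem : ∀ w, w ∈ I ↔ ∃ v ∈ W, z * v * z⁻¹ * v⁻¹ = w := fun w => by
    constructor
    · rintro ⟨-, ⟨v, rfl⟩, rfl⟩
      exact ⟨v, v.2, rfl⟩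
    · rintro ⟨v, hv, rfl⟩
      exact ⟨δ ⟨v, hv⟩, ⟨⟨v, hv⟩, rfl⟩, rfl⟩
  have hIW : I ≤ W := fun w hw => by
    obtain ⟨v, hv, rfl⟩ := (hmem w).1 hw
    exact mul_mem (hzW v hv) (inv_mem hv)
  have hinv : ∀ v ∈ W, v⁻¹ = v := fun v hv => inv_eq_of_mul_eq_one_left (C.coord.part_sq hv.1)
  have hfix : ∀ w ∈ I, z * w * z⁻¹ = w := fun w hw => by
    obtain ⟨v, hv, rfl⟩ := (hmem w).1 hw
    rw [show z * (z * v * z⁻¹ * v⁻¹) * z⁻¹ = (z * z) * v * (z * z)⁻¹ * (z * v⁻¹ * z⁻¹) by group, hz2, hinv v hv]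
    simp only [one_mul, inv_one, mul_one]
    rw [C.coord.part_comm hv.1 (hzW v hv).1]
  -- the kernel is the image
  have hker : δ.ker.map W.subtype = I := by
    refine le_antisymm ?_ fun w hw => ⟨⟨w, hIW hw⟩, Subtype.ext (show z * w * z⁻¹ * w⁻¹ = 1 by
      rw [hfix w hw, mul_inv_cancel]), rfl⟩
    rintro _ ⟨c, hc, rfl⟩
    have hcf : z * (c : G) * z⁻¹ = c := mul_inv_eq_one.1 (congrArg Subtype.val hc)
    set c₁ := z * v₀ * z⁻¹ * v₀⁻¹
    have hc₁ : c₁ ∈ I := (hmem _).2 ⟨v₀, hv₀, rfl⟩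
    by_cases hc1 : (c : G) = 1
    · show (c : G) ∈ I
      rw [hc1]; exact one_mem _
    obtain ⟨j, hj⟩ := htr c₁ c (hIW hc₁) c.2 (fun e => hne (mul_inv_eq_one.1 e)) hc1
    have hWpow : ∀ (k : ℕ), ∀ v ∈ W, r ^ k * v * (r ^ k)⁻¹ ∈ W := by
      intro k
      induction k with
      | zero => intro v hv; simpa using hv
      | succ k ih =>
        intro v hv
        rw [pow_succ', show r * r ^ k * v * (r * r ^ k)⁻¹ = r * (r ^ k * v * (r ^ k)⁻¹) * r⁻¹ by group]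
        exact hrW _ (ih v hv)
    -- conjugation by `z` of the powers of `r`
    have hzr : ∀ (k : ℕ), ∀ v ∈ W, z * r ^ k * z⁻¹ * v * (z * r ^ k * z⁻¹)⁻¹ = r ^ (m * k) * v * (r ^ (m * k))⁻¹ := by
      intro k
      induction k with
      | zero => intro v hv; simp
      | succ k ih =>
        intro v hv
        rw [pow_succ', show z * (r * r ^ k) * z⁻¹ * v * (z * (r * r ^ k) * z⁻¹)⁻¹ =
          z * r * z⁻¹ * (z * r ^ k * z⁻¹ * v * (z * r ^ k * z⁻¹)⁻¹) * (z * r * z⁻¹)⁻¹ by group, ih v hv,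
          hm' _ (hWpow _ v hv), show m * (k + 1) = m + m * k by ring, _root_.pow_add]
        group
    have heq : ∀ v ∈ W, r ^ (m * j) * v * (r ^ (m * j))⁻¹ = r ^ j * v * (r ^ j)⁻¹ := by
      have h1 : r ^ (m * j) * c₁ * (r ^ (m * j))⁻¹ = r ^ j * c₁ * (r ^ j)⁻¹ := by
        rw [← hzr j c₁ (hIW hc₁)]
        conv_lhs => rw [show z * r ^ j * z⁻¹ * c₁ * (z * r ^ j * z⁻¹)⁻¹ =
          z * (r ^ j * (z⁻¹ * c₁ * z) * (r ^ j)⁻¹) * z⁻¹ by group]
        rw [show z⁻¹ * c₁ * z = c₁ by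
          conv_lhs => rw [← hfix c₁ hc₁]
          group, hj, hcf]
      intro v hv
      have key : ∀ a b : ℕ, a ≤ b → r ^ a * c₁ * (r ^ a)⁻¹ = r ^ b * c₁ * (r ^ b)⁻¹ →
          r ^ a * v * (r ^ a)⁻¹ = r ^ b * v * (r ^ b)⁻¹ := by
        intro a b hab e
        obtain ⟨d, rfl⟩ := Nat.exists_eq_add_of_le hab
        have e' : r ^ d * c₁ * (r ^ d)⁻¹ = c₁ := by
          rw [_root_.pow_add, show r ^ a * r ^ d * c₁ * (r ^ a * r ^ d)⁻¹ =
            r ^ a * (r ^ d * c₁ * (r ^ d)⁻¹) * (r ^ a)⁻¹ by group] at e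
          exact (mul_left_cancel (mul_right_cancel e)).symm
        rw [_root_.pow_add, show r ^ a * r ^ d * v * (r ^ a * r ^ d)⁻¹ =
          r ^ a * (r ^ d * v * (r ^ d)⁻¹) * (r ^ a)⁻¹ by group,
          hsr d c₁ (hIW hc₁) (fun e => hne (mul_inv_eq_one.1 e)) e' v hv]
      rcases le_total (m * j) j with hle | hle
      · exact key _ _ hle h1
      · exact (key _ _ hle h1.symm).symm
    refine (hmem _).2 ⟨r ^ j * v₀ * (r ^ j)⁻¹, hWpow j v₀ hv₀, ?_⟩
    rw [show z * (r ^ j * v₀ * (r ^ j)⁻¹) * z⁻¹ = z * r ^ j * z⁻¹ * (z * v₀ * z⁻¹) * (z * r ^ j * z⁻¹)⁻¹ by group,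
      hzr j _ (hzW v₀ hv₀), heq _ (hzW v₀ hv₀)]
    show _ = (c : G)
    rw [← hj, show c₁ = z * v₀ * z⁻¹ * v₀⁻¹ from rfl]
    group
  refine ⟨I, hmem, hIW, ?_⟩
  have h1 : Nat.card I = Nat.card δ.range := card_map_of_injective A.subtype_injective
  have h2 : Nat.card I = Nat.card δ.ker := by rw [← hker]; exact card_map_of_injective W.subtype_injective
  have h3 := δ.ker.card_eq_card_quotient_mul_card_subgroup
  rw [Nat.card_congr (QuotientGroup.quotientKerEquivRange δ).toEquiv, ← h1, ← h2] at h3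
  exact h3.symm

/-- No component is moved. -/
theorem movSet_empty : movSet A = ∅ := by
  classical
  haveI : Fact (Nat.Prime 2) := ⟨Nat.prime_two⟩
  haveI := Fintype.ofFinite {L // L ∈ movSet A}
  obtain ⟨C⟩ := H.conf
  obtain ⟨z, hz, hzA, hz2, hzc, ⟨x₀, hx₀, y₀, hy₀, hxy⟩, hW1, hW2⟩ := C.coord.exists_center
  set W := A ⊓ centralizer ((S : Subgroup G) : Set G) with hWdef
  have hW4 : Nat.card W = 4 := C.coord.card_fixed
  have hWA : W ≤ A := inf_le_left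
  -- a normal subgroup of `S` in `A` meets `W`
  have meet : ∀ M : Subgroup G, M ≤ A → (∀ x ∈ (S : Subgroup G), ∀ v ∈ M, x * v * x⁻¹ ∈ M) → M ≠ ⊥ →
      ∃ w ∈ M, w ∈ W ∧ w ≠ 1 := by
    intro M hMA hMn hne
    haveI : (M.subgroupOf (S : Subgroup G)).Normal := ⟨fun v hv x => hMn x x.2 v hv⟩
    obtain ⟨w, hwM, hwc, hw1⟩ := Cfsg.Lib.Small.exists_central_of_normal S.2 (M.subgroupOf (S : Subgroup G))
      (by rw [Ne, subgroupOf_eq_bot, disjoint_iff, inf_eq_left.2 (hMA.trans C.le)]; exact hne)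
    exact ⟨w, hwM, ⟨hMA hwM, mem_centralizer_iff.2 fun x hx => congrArg Subtype.val (mem_center_iff.1 hwc ⟨x, hx⟩)⟩,
      fun e => hw1 (Subtype.ext e)⟩
  have hzn : ∀ v ∈ A, z * v * z⁻¹ * v⁻¹ ∈ W := hW1
  have hfixW : ∀ {x w : G}, x ∈ (S : Subgroup G) → w ∈ W → x * w * x⁻¹ = w := fun hx hw => by
    rw [mem_centralizer_iff.1 hw.2 _ hx, mul_inv_cancel_right]
  have hne1 : ∀ {L : Subgroup G}, Cfsg.IsComponent L → Mov A L → ∃ v ∈ A ⊓ L, v ≠ 1 := fun hL hm => by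
    obtain ⟨v, hv, hvL, hvc⟩ := H.cfg.exists_noncentral hL hm
    exact ⟨v, ⟨hv, hvL⟩, fun e => hvc (e ▸ one_mem _)⟩
  have himage : ∀ {L : Subgroup G}, Cfsg.IsComponent L → Mov A L → ∀ x : G,
      Cfsg.IsComponent (L.map (MulAut.conj x).toMonoidHom) ∧ Mov A (L.map (MulAut.conj x).toMonoidHom) := fun hL hm x =>
    ⟨Cfsg.Lib.Components.comp_conj hL x, H.cfg.mov_conj hL hm x⟩
  have hinter : ∀ {L L' : Subgroup G}, Cfsg.IsComponent L → Mov A L → Cfsg.IsComponent L' → L ≠ L' →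
      ∀ v ∈ L, v ∈ L' → v = 1 := fun hL hm hL' hne v hv hv' =>
    H.center_trivial hL hm hv (comm_of_ne hL' hL (Ne.symm hne) hv')
  refine Set.eq_empty_iff_forall_notMem.2 fun L₀ hL₀ => ?_
  obtain ⟨hL₀c, hL₀m⟩ := hL₀
  by_cases hall : ∀ L ∈ movSet A, ∀ v ∈ A ⊓ L, z * v * z⁻¹ = v
  · -- `z` fixes the moved components
    have hzL : ∀ L ∈ movSet A, z ∈ normalizer (L : Set G) := fun L hL => by
      by_contra hn
      obtain ⟨v, hv, hv1⟩ := hne1 hL.1 hL.2
      have hne : L.map (MulAut.conj z).toMonoidHom ≠ L := fun e => hn (mem_normalizer_iff_map_conj_eq.2 e)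
      exact hv1 (hinter hL.1 hL.2 (himage hL.1 hL.2 z).1 hne.symm v hv.2
        ⟨v, hv.2, hall L hL v hv⟩)
    obtain ⟨v, hv, hv1⟩ := hne1 hL₀c hL₀m
    haveI := H.cfg.movLayer_normal
    obtain ⟨w, hw, hwW, hw1⟩ := meet (A ⊓ movLayer A) inf_le_left
      (fun x hx u hu => ⟨C.coord.normal hx hu.1, Subgroup.Normal.conj_mem inferInstance u hu.2 x⟩)
      (fun e => hv1 (by
        have : v ∈ A ⊓ movLayer A := ⟨hv.1, le_movLayer hL₀c hL₀m hv.2⟩
        rwa [e, mem_bot] at this))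
    obtain ⟨a, ha, hwa⟩ := hW2 w hwW
    refine hw1 (H.eq_one_of_central Finset.univ w (H.cfg.movLayer_eq_iSup ▸ hw.2) fun L _ => ?_)
    obtain ⟨l, hl, hlc⟩ := (H.comp_facts L.2.1 L.2.2).1 a ha
    have hn := hzL L L.2
    have hcz : z * (l⁻¹ * a) * z⁻¹ ∈ centralizer ((L : Subgroup G) : Set G) := mem_centralizer_iff.2 fun y hy => by
      have hy' := (mem_normalizer_iff.1 (inv_mem hn) y).1 hy
      rw [inv_inv] at hy'
      calc y * (z * (l⁻¹ * a) * z⁻¹) = z * ((z⁻¹ * y * z) * (l⁻¹ * a)) * z⁻¹ := by group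
        _ = z * ((l⁻¹ * a) * (z⁻¹ * y * z)) * z⁻¹ := by rw [mem_centralizer_iff.1 hlc _ hy']
        _ = _ := by group
    rw [← hwa, show z * a * z⁻¹ * a⁻¹ = z * l * z⁻¹ * (z * (l⁻¹ * a) * z⁻¹) * (l⁻¹ * a)⁻¹ * l⁻¹ by group,
      hall L L.2 l hl]
    refine mem_centralizer_iff.2 fun y hy => ?_
    have h1 := mul_mem hcz (inv_mem hlc)
    have hy' : l⁻¹ * y * l ∈ (L : Subgroup G) := mul_mem (mul_mem (inv_mem hl.2) hy) hl.2
    calc y * (l * (z * (l⁻¹ * a) * z⁻¹) * (l⁻¹ * a)⁻¹ * l⁻¹)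
        = l * ((l⁻¹ * y * l) * (z * (l⁻¹ * a) * z⁻¹ * (l⁻¹ * a)⁻¹)) * l⁻¹ := by group
      _ = l * ((z * (l⁻¹ * a) * z⁻¹ * (l⁻¹ * a)⁻¹) * (l⁻¹ * y * l)) * l⁻¹ := by
          rw [mem_centralizer_iff.1 h1 _ hy']
      _ = _ := by group
  push Not at hall
  obtain ⟨L₁, ⟨hL₁, hm₁⟩, v₁, hv₁, hne₁⟩ := hall
  -- the components on which `z` is not trivial are permuted by `S`
  let Z : Subgroup G → Prop := fun L => L ∈ movSet A ∧ ∃ v ∈ A ⊓ L, z * v * z⁻¹ ≠ v
  have hZconj : ∀ {L : Subgroup G}, Z L → ∀ x ∈ (S : Subgroup G), Z (L.map (MulAut.conj x).toMonoidHom) := by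
    rintro L ⟨⟨hL, hm⟩, v, hv, hne⟩ x hx
    refine ⟨himage hL hm x, x * v * x⁻¹, ⟨C.coord.normal hx hv.1, ⟨v, hv.2, rfl⟩⟩, fun e => hne ?_⟩
    have hm' := hzc x⁻¹ (inv_mem hx)
    rw [inv_inv] at hm'
    have e1 : x⁻¹ * z * x * v * (x⁻¹ * z * x)⁻¹ = v := by
      rw [show x⁻¹ * z * x * v * (x⁻¹ * z * x)⁻¹ = x⁻¹ * (z * (x * v * x⁻¹) * z⁻¹) * x by group, e]
      group
    set a := x⁻¹ * z * x * z⁻¹
    have hzv := C.coord.normal hz hv.1
    rw [show x⁻¹ * z * x = a * z by rw [show a = x⁻¹ * z * x * z⁻¹ from rfl, inv_mul_cancel_right],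
      show a * z * v * (a * z)⁻¹ = a * (z * v * z⁻¹) * a⁻¹ by group, C.coord.part_comm hm' hzv,
      mul_inv_cancel_right] at e1
    exact e1
  -- a set of at most two such components supporting `W` is impossible
  have kill : ∀ L L' : Subgroup G, Cfsg.IsComponent L → Mov A L → Cfsg.IsComponent L' → Mov A L' →
      W ≤ L ⊔ L' → (L = L' ∧ Nat.card (A ⊓ L : Subgroup G) ≤ 16 ∨
        Nat.card (A ⊓ L : Subgroup G) * Nat.card (A ⊓ L' : Subgroup G) ≤ 16) →
      (∀ x ∈ (S : Subgroup G), ∀ y, y ∈ centralizer (L : Set G) → y ∈ centralizer (L' : Set G) →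
        x * y * x⁻¹ ∈ centralizer (L : Set G) ∧ x * y * x⁻¹ ∈ centralizer (L' : Set G)) → False := by
    intro L L' hL hm hL' hm' hle hcard hperm
    set M := A ⊓ (centralizer (L : Set G) ⊓ centralizer (L' : Set G))
    have hM : M ≠ ⊥ := by
      intro hbot
      have hp := fun a : A => (H.comp_facts hL hm).1 a a.2
      have hp' := fun a : A => (H.comp_facts hL' hm').1 a a.2
      choose f hf hfc using hp
      choose f' hf' hfc' using hp'
      have key : ∀ {K : Subgroup G} {p a b : G}, p⁻¹ * a ∈ centralizer (K : Set G) → p⁻¹ * b ∈ centralizer (K : Set G) →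
          a⁻¹ * b ∈ centralizer (K : Set G) := fun h1 h2 => by
        have := mul_mem (inv_mem h1) h2
        rwa [show ∀ p a b : G, (p⁻¹ * a)⁻¹ * (p⁻¹ * b) = a⁻¹ * b from fun p a b => by group] at this
      have h64 := C.coord.card_part
      rcases hcard with ⟨rfl, h16⟩ | h16
      · have hinj : Function.Injective fun a : A => (⟨f a, hf a⟩ : (A ⊓ L : Subgroup G)) := by
          intro a b e
          have e' : f a = f b := congrArg Subtype.val e
          have h1 := key (hfc a) (e' ▸ hfc b)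
          have h2 : (a : G)⁻¹ * b ∈ M := ⟨A.mul_mem (A.inv_mem a.2) b.2, h1, h1⟩
          rw [hbot, mem_bot] at h2
          exact Subtype.ext (inv_mul_eq_one.1 h2)
        have := Nat.card_le_card_of_injective _ hinj
        omega
      · have hinj : Function.Injective fun a : A =>
            ((⟨f a, hf a⟩ : (A ⊓ L : Subgroup G)), (⟨f' a, hf' a⟩ : (A ⊓ L' : Subgroup G))) := by
          intro a b e
          have e1 : f a = f b := congrArg (fun p => ((p.1 : (A ⊓ L : Subgroup G)) : G)) e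
          have e2 : f' a = f' b := congrArg (fun p => ((p.2 : (A ⊓ L' : Subgroup G)) : G)) e
          have h2 : (a : G)⁻¹ * b ∈ M :=
            ⟨A.mul_mem (A.inv_mem a.2) b.2, key (hfc a) (e1 ▸ hfc b), key (hfc' a) (e2 ▸ hfc' b)⟩
          rw [hbot, mem_bot] at h2
          exact Subtype.ext (inv_mul_eq_one.1 h2)
        have := Nat.card_le_card_of_injective _ hinj
        rw [Nat.card_prod] at this
        omega
    obtain ⟨w, hw, hwW, hw1⟩ := meet M inf_le_left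
      (fun x hx y hy => ⟨C.coord.normal hx hy.1, hperm x hx y hy.2.1 hy.2.2⟩) hM
    exact hw1 (eq_one_of_pair hL hL' (fun _ => H.center_trivial hL hm) (fun _ => H.center_trivial hL' hm')
      (hle hwW) hw.2.1 hw.2.2)
  have hcentConj : ∀ {L : Subgroup G} {x y : G}, y ∈ centralizer (L : Set G) →
      x * y * x⁻¹ ∈ centralizer ((L.map (MulAut.conj x).toMonoidHom : Subgroup G) : Set G) := by
    intro L x y hy
    refine mem_centralizer_iff.2 ?_
    rintro _ ⟨l, hl, rfl⟩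
    show MulAut.conj x l * MulAut.conj x y = MulAut.conj x y * MulAut.conj x l
    rw [← map_mul, ← map_mul, mem_centralizer_iff.1 hy l hl]
  -- the nontrivial commutators inside a component and its image
  have hI : ∀ {L : Subgroup G}, Z L → ∃ w ∈ W, w ≠ 1 ∧ w ∈ L ⊔ L.map (MulAut.conj z).toMonoidHom := by
    rintro L ⟨-, v, hv, hne⟩
    exact ⟨_, hzn v hv.1, fun e => hne (mul_inv_eq_one.1 e),
      mul_mem (mem_sup_right ⟨v, hv.2, rfl⟩) (inv_mem (mem_sup_left hv.2))⟩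
  have hsupp : ∀ L L' : Subgroup G, Cfsg.IsComponent L → Mov A L → Cfsg.IsComponent L' → Mov A L' →
      W ≤ L ⊔ L' → (∀ K, Z K → K.map (MulAut.conj z).toMonoidHom = L ∨ K.map (MulAut.conj z).toMonoidHom = L' →
        K = L ∨ K = L') → ∀ K, Z K → K = L ∨ K = L' := by
    intro L L' hL hm hL' hm' hle hzperm K hK
    by_contra hne
    push Not at hne
    obtain ⟨w, hwW, hw1, hw⟩ := hI hK
    obtain ⟨⟨hKc, hKm⟩, -⟩ := id hK
    obtain ⟨n1, n2⟩ : K.map (MulAut.conj z).toMonoidHom ≠ L ∧ K.map (MulAut.conj z).toMonoidHom ≠ L' := by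
      refine not_or.1 fun e => ?_
      rcases hzperm K hK e with e' | e'
      · exact hne.1 e'
      · exact hne.2 e'
    have hK'c := (himage hKc hKm z).1
    refine hw1 (eq_one_of_pair hL hL' (fun _ => H.center_trivial hL hm) (fun _ => H.center_trivial hL' hm') (hle hwW) ?_ ?_)
    · exact (sup_le (fun y hy => comm_of_ne hKc hL hne.1 hy) (fun y hy => comm_of_ne hK'c hL n1 hy) :
        K ⊔ K.map (MulAut.conj z).toMonoidHom ≤ centralizer (L : Set G)) hw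
    · exact (sup_le (fun y hy => comm_of_ne hKc hL' hne.2 hy) (fun y hy => comm_of_ne hK'c hL' n2 hy) :
        K ⊔ K.map (MulAut.conj z).toMonoidHom ≤ centralizer (L' : Set G)) hw
  have hperm_of : ∀ L L' : Subgroup G, Cfsg.IsComponent L → Mov A L → Cfsg.IsComponent L' → Mov A L' → Z L → Z L' →
      (∀ K, Z K → K = L ∨ K = L') →
      ∀ x ∈ (S : Subgroup G), ∀ y, y ∈ centralizer (L : Set G) → y ∈ centralizer (L' : Set G) →
        x * y * x⁻¹ ∈ centralizer (L : Set G) ∧ x * y * x⁻¹ ∈ centralizer (L' : Set G) := by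
    intro L L' _ _ _ _ hZL hZL' hall x hx y hy hy'
    have key : ∀ M, Z M → x * y * x⁻¹ ∈ centralizer (M : Set G) := by
      intro M hM
      have hMM : (M.map (MulAut.conj x⁻¹).toMonoidHom).map (MulAut.conj x).toMonoidHom = M := by
        rw [map_map]
        convert map_id M using 2
        ext g
        show x * (x⁻¹ * g * x⁻¹⁻¹) * x⁻¹ = g
        group
      rcases hall _ (hZconj hM x⁻¹ (inv_mem hx)) with e | e
      · have h1 := hcentConj (x := x) hy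
        rwa [← e, hMM] at h1
      · have h1 := hcentConj (x := x) hy'
        rwa [← e, hMM] at h1
    exact ⟨key L hZL, key L' hZL'⟩
  have hmapz : ∀ K : Subgroup G, (K.map (MulAut.conj z).toMonoidHom).map (MulAut.conj z).toMonoidHom = K := fun K => by
    rw [map_map]
    convert map_id K using 2
    ext g
    show z * (z * g * z⁻¹) * z⁻¹ = g
    rw [show z * (z * g * z⁻¹) * z⁻¹ = z * z * g * (z * z)⁻¹ by group, hz2, one_mul, inv_one, mul_one]
  have hcard4 : ∀ {X : Subgroup G}, X ≤ W → 4 ≤ Nat.card X → X = W := fun hX h => eq_of_le_of_card_ge hX (hW4 ▸ h)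
  by_cases hmove : ∃ L, Z L ∧ L.map (MulAut.conj z).toMonoidHom ≠ L
  · -- a component moved by `z`
    obtain ⟨L, hZL, hne⟩ := hmove
    obtain ⟨⟨hL, hm⟩, -⟩ := id hZL
    obtain ⟨hL', hm'⟩ := himage hL hm z
    set L' := L.map (MulAut.conj z).toMonoidHom
    set δ := cmtHom C hz (A ⊓ L) inf_le_left
    have hinj : Function.Injective δ := (injective_iff_map_eq_one _).2 fun v hv => Subtype.ext
      (hinter hL hm hL' hne.symm v v.2.2 ⟨v, v.2.2, mul_inv_eq_one.1 (congrArg Subtype.val hv)⟩)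
    have hr : δ.range.map A.subtype ≤ W := by
      rintro _ ⟨-, ⟨v, rfl⟩, rfl⟩
      exact hzn v v.2.1
    have hcr : Nat.card (δ.range.map A.subtype) = Nat.card (A ⊓ L : Subgroup G) := by
      rw [card_map_of_injective A.subtype_injective]
      exact (Nat.card_congr (MonoidHom.ofInjective hinj).toEquiv).symm
    have h4 := (H.comp_facts hL hm).2.1
    have hWr := hcard4 hr (hcr ▸ h4)
    have hL4 : Nat.card (A ⊓ L : Subgroup G) = 4 := by rw [← hcr, hWr, hW4]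
    have hle : W ≤ L ⊔ L' := by
      rw [← hWr]
      rintro _ ⟨-, ⟨v, rfl⟩, rfl⟩
      exact mul_mem (mem_sup_right ⟨v, v.2.2, rfl⟩) (inv_mem (mem_sup_left v.2.2))
    have hL'4 : Nat.card (A ⊓ L' : Subgroup G) ≤ 4 := by
      rw [← hL4, ← card_map_of_injective (K := A ⊓ L) (f := (MulAut.conj z).toMonoidHom) (MulAut.conj z).injective]
      refine card_le_of_le fun v hv => ⟨z⁻¹ * v * z, ⟨?_, ?_⟩, by show z * (z⁻¹ * v * z) * z⁻¹ = v; group⟩
      · have h1 := C.coord.normal (inv_mem hz) hv.1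
        rwa [inv_inv] at h1
      · obtain ⟨l, hl, rfl⟩ := hv.2
        show z⁻¹ * (z * l * z⁻¹) * z ∈ L
        rwa [show z⁻¹ * (z * l * z⁻¹) * z = l by group]
    have hall' := hsupp L L' hL hm hL' hm' hle fun K hK e => by
      rcases e with e | e
      · exact Or.inr (by rw [← hmapz K, e])
      · exact Or.inl (by rw [← hmapz K, e, hmapz])
    exact kill L L' hL hm hL' hm' hle (Or.inr (by rw [hL4]; omega))
      (hperm_of L L' hL hm hL' hm' hZL (hZconj hZL z hz) hall')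
  push Not at hmove
  -- `z` normalises the components it moves elements of
  have hsq : ∀ {L : Subgroup G}, Z L → ∃ I : Subgroup G, I ≤ W ∧ I ≤ L ∧ 2 ≤ Nat.card I ∧
      Nat.card I * Nat.card I = Nat.card (A ⊓ L : Subgroup G) := by
    intro L hZ
    obtain ⟨⟨hL, hm⟩, v, hv, hne⟩ := id hZ
    obtain ⟨I, hmem, hIL, hcard⟩ := H.card_sq hL hm hz hz2 (mem_normalizer_iff_map_conj_eq.2 (hmove L hZ)) hv hne
    refine ⟨I, fun w hw => ?_, hIL.trans inf_le_right, ?_, hcard⟩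
    · obtain ⟨u, hu, rfl⟩ := (hmem w).1 hw
      exact hzn u hu.1
    · refine Finite.one_lt_card_iff_nontrivial.2 ⟨⟨⟨_, (hmem _).2 ⟨v, hv, rfl⟩⟩, 1, fun e => hne ?_⟩⟩
      exact mul_inv_eq_one.1 (congrArg Subtype.val e)
  have hzperm : ∀ L L' : Subgroup G, ∀ K, Z K →
      K.map (MulAut.conj z).toMonoidHom = L ∨ K.map (MulAut.conj z).toMonoidHom = L' → K = L ∨ K = L' :=
    fun L L' K hK e => by rwa [hmove K hK] at e
  have hW2or4 : ∀ {L}, Z L → Nat.card (A ⊓ L : Subgroup G) = 4 ∨ Nat.card (A ⊓ L : Subgroup G) = 16 ∧ W ≤ L := by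
    intro L hZ
    obtain ⟨I, hIW, hIL, h2, hcard⟩ := hsq hZ
    obtain ⟨k, hk⟩ := card_dvd_of_le hIW
    rw [hW4] at hk
    have hk2 : Nat.card I = 2 ∨ Nat.card I = 4 := by
      rcases k with _ | _ | _ | k
      · omega
      · omega
      · omega
      · have := Nat.mul_le_mul h2 (show 3 ≤ k + 1 + 1 + 1 by omega)
        omega
    rcases hk2 with e | e
    · exact Or.inl (by rw [← hcard, e])
    · exact Or.inr ⟨by rw [← hcard, e], (hcard4 hIW e.ge) ▸ hIL⟩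
  have hZ₁ : Z L₁ := ⟨⟨hL₁, hm₁⟩, v₁, hv₁, hne₁⟩
  by_cases hbig : ∃ L, Z L ∧ W ≤ L
  · obtain ⟨L, hZL, hle⟩ := hbig
    obtain ⟨⟨hL, hm⟩, -⟩ := id hZL
    exact kill L L hL hm hL hm (by rwa [sup_idem]) (Or.inl ⟨rfl, by rcases hW2or4 hZL with e | ⟨e, -⟩ <;> omega⟩)
      (hperm_of L L hL hm hL hm hZL hZL (hsupp L L hL hm hL hm (by rwa [sup_idem]) (hzperm L L)))
  have h4all : ∀ {L}, Z L → Nat.card (A ⊓ L : Subgroup G) = 4 := fun hZ =>
    (hW2or4 hZ).resolve_right fun e => hbig ⟨_, hZ, e.2⟩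
  by_cases htwo : ∃ L, Z L ∧ L ≠ L₁
  · obtain ⟨L, hZL, hne⟩ := htwo
    obtain ⟨⟨hL, hm⟩, -⟩ := id hZL
    obtain ⟨I, hIW, hIL, hI2, -⟩ := hsq hZL
    obtain ⟨J, hJW, hJL, hJ2, -⟩ := hsq hZ₁
    obtain ⟨j, hj, hj1⟩ := J.bot_or_exists_ne_one.resolve_left fun e => by rw [e, card_bot] at hJ2; omega
    have hjI : j ∉ I := fun h => hj1 (hinter hL hm hL₁ hne j (hIL h) (hJL hj))
    have hle : W ≤ L ⊔ L₁ := by
      rw [← hcard4 (sup_le hIW hJW) ?_]
      · exact sup_le_sup hIL hJL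
      · have hlt : I < I ⊔ J := lt_of_le_of_ne le_sup_left fun e => hjI (e ▸ mem_sup_right hj)
        obtain ⟨k, hk⟩ := card_dvd_of_le hlt.le
        rcases k with _ | _ | k
        · rw [mul_zero] at hk; exact absurd hk Nat.card_pos.ne'
        · exact absurd (eq_of_le_of_card_ge hlt.le (by rw [hk, zero_add, mul_one])) hlt.ne
        · rw [hk]
          have := Nat.mul_le_mul hI2 (show 2 ≤ k + 1 + 1 by omega)
          omega
    exact kill L L₁ hL hm hL₁ hm₁ hle (Or.inr (by rw [h4all hZL, h4all hZ₁]))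
      (hperm_of L L₁ hL hm hL₁ hm₁ hZL hZ₁ (hsupp L L₁ hL hm hL₁ hm₁ hle (hzperm L L₁)))
  push Not at htwo
  -- a single component, normalised by `S`: the commutator `z` acts trivially
  have hSL : ∀ x ∈ (S : Subgroup G), x ∈ normalizer (L₁ : Set G) := fun x hx =>
    mem_normalizer_iff_map_conj_eq.2 (htwo _ (hZconj hZ₁ x hx))
  set w := z * v₁ * z⁻¹ * v₁⁻¹
  have hw1 : w ≠ 1 := fun e => hne₁ (mul_inv_eq_one.1 e)
  have hwW : w ∈ W := hzn v₁ hv₁.1
  have hwL : w ∈ A ⊓ L₁ := ⟨hWA hwW, L₁.mul_mem ((mem_normalizer_iff.1 (hSL z hz) v₁).1 hv₁.2) (L₁.inv_mem hv₁.2)⟩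
  have hv1 : v₁ ≠ 1 := fun e => hne₁ (by rw [e, mul_one, mul_inv_cancel])
  have hvw : v₁ ≠ w := fun e => hne₁ (by rw [e]; exact hfixW hz hwW)
  have hall4 : ∀ u ∈ A ⊓ L₁, u = 1 ∨ u = w ∨ u = v₁ ∨ u = w * v₁ := by
    have hset : ({1, w, v₁, w * v₁} : Set G) = ((A ⊓ L₁ : Subgroup G) : Set G) := by
      refine Set.eq_of_subset_of_ncard_le ?_ ?_ (Set.toFinite _)
      · rintro u (rfl | rfl | rfl | rfl)
        exacts [one_mem _, hwL, hv₁, mul_mem hwL hv₁]
      · rw [← Nat.card_coe_set_eq, SetLike.coe_sort_coe, h4all hZ₁, Set.ncard_insert_of_notMem,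
          Set.ncard_insert_of_notMem, Set.ncard_insert_of_notMem, Set.ncard_singleton]
        · simp only [Set.mem_singleton_iff]
          exact fun e => hw1 (mul_eq_right.1 e.symm)
        · simp only [Set.mem_insert_iff, Set.mem_singleton_iff, not_or]
          exact ⟨Ne.symm hvw, fun e => hv1 (mul_eq_left.1 e.symm)⟩
        · simp only [Set.mem_insert_iff, Set.mem_singleton_iff, not_or]
          refine ⟨Ne.symm hw1, Ne.symm hv1, fun e => hvw ?_⟩
          rw [eq_inv_of_mul_eq_one_right e.symm, inv_eq_of_mul_eq_one_left (C.coord.part_sq hwL.1)]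
    intro u hu
    have hu' : u ∈ ({1, w, v₁, w * v₁} : Set G) := hset ▸ hu
    simpa using hu'
  have himg : ∀ x ∈ (S : Subgroup G), x * v₁ * x⁻¹ = v₁ ∨ x * v₁ * x⁻¹ = w * v₁ := by
    intro x hx
    rcases hall4 _ ⟨C.coord.normal hx hv₁.1, (mem_normalizer_iff.1 (hSL x hx) v₁).1 hv₁.2⟩ with e | e | e | e
    · exact absurd (conj_eq_one_iff.1 e) hv1
    · exact absurd (by
        rw [← hfixW hx hwW] at e
        exact mul_left_cancel (mul_right_cancel e)) hvw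
    · exact Or.inl e
    · exact Or.inr e
  have hcomm : x₀ * y₀ * v₁ * (x₀ * y₀)⁻¹ = y₀ * x₀ * v₁ * (y₀ * x₀)⁻¹ := by
    have hw2 : ∀ x ∈ (S : Subgroup G), x * (w * v₁) * x⁻¹ = w * (x * v₁ * x⁻¹) := fun x hx => by
      rw [show x * (w * v₁) * x⁻¹ = x * w * x⁻¹ * (x * v₁ * x⁻¹) by group, hfixW hx hwW]
    rw [show x₀ * y₀ * v₁ * (x₀ * y₀)⁻¹ = x₀ * (y₀ * v₁ * y₀⁻¹) * x₀⁻¹ by group,
      show y₀ * x₀ * v₁ * (y₀ * x₀)⁻¹ = y₀ * (x₀ * v₁ * x₀⁻¹) * y₀⁻¹ by group]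
    rcases himg x₀ hx₀ with e | e <;> rcases himg y₀ hy₀ with e' | e'
    · rw [e', e, e']
    · rw [e', hw2 x₀ hx₀, e, e']
    · rw [e', e, hw2 y₀ hy₀, e']
    · rw [e', hw2 x₀ hx₀, e, hw2 y₀ hy₀, e']
  refine hne₁ ?_
  set g := x₀ * y₀ * x₀⁻¹ * y₀⁻¹ with hgd
  have hg : g * v₁ * g⁻¹ = v₁ := by
    have e2 := congrArg (fun t => (y₀ * x₀)⁻¹ * t * (y₀ * x₀)) hcomm
    skip
    rw [show (y₀ * x₀)⁻¹ * (y₀ * x₀ * v₁ * (y₀ * x₀)⁻¹) * (y₀ * x₀) = v₁ by group] at e2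
    have e3 : ∀ v, (y₀ * x₀) * v * (y₀ * x₀)⁻¹ = y₀ * (x₀ * v * x₀⁻¹) * y₀⁻¹ := fun v => by group
    have h4 : ∀ v, g * ((y₀ * x₀) * v * (y₀ * x₀)⁻¹) * g⁻¹ = (x₀ * y₀) * v * (x₀ * y₀)⁻¹ := fun v => by
      rw [hgd]; group
    have h5 := h4 ((y₀ * x₀)⁻¹ * v₁ * (y₀ * x₀))
    rw [show (y₀ * x₀) * ((y₀ * x₀)⁻¹ * v₁ * (y₀ * x₀)) * (y₀ * x₀)⁻¹ = v₁ by group] at h5
    rw [h5]
    set u := (y₀ * x₀)⁻¹ * v₁ * (y₀ * x₀) with hu
    have hSu : (y₀ * x₀)⁻¹ ∈ (S : Subgroup G) := inv_mem (mul_mem hy₀ hx₀)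
    have hu' : u = v₁ ∨ u = w * v₁ := by
      rcases himg _ hSu with e | e
      · exact Or.inl (by rw [hu]; simpa using e)
      · exact Or.inr (by rw [hu]; simpa using e)
    rcases hu' with e | e
    · rw [e, hcomm]
      conv_rhs => rw [show v₁ = (y₀ * x₀) * u * (y₀ * x₀)⁻¹ by rw [hu]; group, e]
    · rw [e, show x₀ * y₀ * (w * v₁) * (x₀ * y₀)⁻¹ = x₀ * y₀ * w * (x₀ * y₀)⁻¹ * (x₀ * y₀ * v₁ * (x₀ * y₀)⁻¹) by
        group, hcomm, hfixW (mul_mem hx₀ hy₀) hwW]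
      conv_rhs => rw [show v₁ = (y₀ * x₀) * u * (y₀ * x₀)⁻¹ by rw [hu]; group, e,
        show y₀ * x₀ * (w * v₁) * (y₀ * x₀)⁻¹ = y₀ * x₀ * w * (y₀ * x₀)⁻¹ * (y₀ * x₀ * v₁ * (y₀ * x₀)⁻¹) by group,
        hfixW (mul_mem hy₀ hx₀) hwW]
  have hzv := C.coord.normal hz hv₁.1
  have e1 : g * z * v₁ * (g * z)⁻¹ = v₁ := by
    rw [C.coord.part_comm hxy hv₁.1, mul_inv_cancel_right]
  rw [show g * z * v₁ * (g * z)⁻¹ = g * (z * v₁ * z⁻¹) * g⁻¹ by group] at e1
  have e2 := e1.trans hg.symm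
  exact mul_left_cancel (mul_right_cancel e2)

/-- The abelian subgroup is normal. -/
theorem normal : A.Normal := by
  obtain ⟨C⟩ := H.conf
  have hE : movLayer A = ⊥ := by rw [movLayer, H.movSet_empty, sSup_empty]
  have heq : normalClosure (A : Set G) = A := le_antisymm (by
    rw [H.cfg.normalClosure_eq, hE, bot_sup_eq]
    exact inf_le_left) subset_normalClosure
  exact heq ▸ normalClosure_normal

end Setup

/-- The configuration gives the set-up. -/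
theorem setup (gold : GoldProp.{u}) (hO : Cfsg.oddCore G = ⊥) (C : Config S A) : Setup S A :=
  ⟨⟨C⟩, ⟨gold, hO, C.stronglyClosed, fun _ hx _ hy => C.coord.part_comm hx hy⟩⟩

end Cfsg.Lib.MTwentyFourNormal
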