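import Cfsg.Agent.MTwentyFourNormal.Layer
import Cfsg.Agent.Goldschmidt.Final
import Cfsg.Agent.Components.Misc.PPrimeP
import Cfsg.Prelude.Def_Transfer

/-!
Sylow 2-subgroups of the type of the Mathieu group of degree 24 modulo the centre, and of that type with central
centre: the normality of the abelian subgroup of order 64, of the extraspecial one of order 128.
-/

set_option autoImplicit false
set_option linter.unusedSectionVars false
set_option linter.style.haveILetI false

namespace Cfsg.Lib.MTwentyFourNormal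

open Subgroup
open Cfsg.Lib.Classical.MTwentyFour (bxor phi tab law facts exists_equiv)
open Cfsg.Lib.Components (normal_of_mem_sSup_normal coprime_card_pPrimeCore)

universe u

variable {G : Type u} [Group G] [Finite G]

/-- Coordinates on a Sylow subgroup of the given type. -/
theorem exists_config (S : Sylow 2 G) (P : Sylow 2 ↥Cfsg.M24)
    (hS : Nonempty (↥(S : Subgroup G) ≃* (↥(P : Subgroup ↥Cfsg.M24) ⧸ Subgroup.center ↥(P : Subgroup ↥Cfsg.M24))))
    {A : Subgroup G} (huniq : ∀ B : Subgroup G, B ≤ (S : Subgroup G) → IsMulCommutative ↥B → Nat.card ↥B = 64 → B = A) :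
    Nonempty (Config S A) := by
  obtain ⟨i⟩ := hS
  obtain ⟨e, he⟩ := exists_equiv P
  let el : Fin 64 × Fin 8 → G := fun x => ((i.symm (e x) : ↥(S : Subgroup G)) : G)
  have hinj : Function.Injective el := fun x y h => e.injective (i.symm.injective (Subtype.ext h))
  have hmul : ∀ x y, el x * el y = el (law tab phi x y) := fun x y => by
    show ((i.symm (e x) : ↥(S : Subgroup G)) : G) * (i.symm (e y) : ↥(S : Subgroup G)) = _
    rw [← Subgroup.coe_mul, ← map_mul, he]
  have hmem : ∀ g, g ∈ (S : Subgroup G) ↔ ∃ x, el x = g := fun g => by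
    refine ⟨fun hg => ⟨e.symm (i ⟨g, hg⟩), ?_⟩, ?_⟩
    · show ((i.symm (e (e.symm (i ⟨g, hg⟩))) : ↥(S : Subgroup G)) : G) = g
      rw [e.apply_symm_apply, i.symm_apply_apply]
    · rintro ⟨x, rfl⟩
      exact SetLike.coe_mem _
  have hpart : ∀ a b, el (a, 0) * el (b, 0) = el (bxor a b, 0) := fun a b => by
    rw [hmul, law, phi_zero, zero_tab]
  have hone : el (0, 0) = 1 := mul_eq_left.1 (show el (0, 0) * el (0, 0) = el (0, 0) by rw [hpart, bxor_self])
  let A₀ : Subgroup G :=
    { carrier := {g | ∃ a, el (a, 0) = g}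
      one_mem' := ⟨0, hone⟩
      mul_mem' := by rintro _ _ ⟨a, rfl⟩ ⟨b, rfl⟩; exact ⟨_, (hpart a b).symm⟩
      inv_mem' := by
        rintro _ ⟨a, rfl⟩
        exact ⟨a, (inv_eq_of_mul_eq_one_left (by rw [hpart, bxor_self, hone])).symm⟩ }
  let K : Coord (S : Subgroup G) A₀ := ⟨el, hinj, hmul, hmem, fun _ => Iff.rfl⟩
  have hA : A₀ = A := huniq A₀ K.le ⟨⟨fun x y => Subtype.ext (K.part_comm x.2 y.2)⟩⟩ K.card_part
  subst hA
  exact ⟨⟨K, huniq⟩⟩

/-- The statement of S3169. -/
theorem abelian_normal (hO : Cfsg.oddCore G = ⊥) (S : Sylow 2 G) (P : Sylow 2 ↥Cfsg.M24)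
    (hS : Nonempty (↥(S : Subgroup G) ≃* (↥(P : Subgroup ↥Cfsg.M24) ⧸ Subgroup.center ↥(P : Subgroup ↥Cfsg.M24))))
    {A : Subgroup G} (huniq : ∀ B : Subgroup G, B ≤ (S : Subgroup G) → IsMulCommutative ↥B → Nat.card ↥B = 64 → B = A) :
    A.Normal := by
  obtain ⟨C⟩ := exists_config S P hS huniq
  exact (setup Goldschmidt.goldProp hO C).normal

/-- The statement of S3170. -/
theorem extraspecial_normal (hO : Cfsg.oddCore G = ⊥) (T : Sylow 2 G) (P : Sylow 2 ↥Cfsg.M24)
    (hT : Nonempty (↥(T : Subgroup G) ≃* ↥(P : Subgroup ↥Cfsg.M24)))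
    (hZ : ∀ z ∈ (T : Subgroup G), (∀ t ∈ (T : Subgroup G), z * t = t * z) → z ∈ center G)
    {E : Subgroup G} (hE : E ≤ (T : Subgroup G)) (hEn : (E.subgroupOf (T : Subgroup G)).Normal)
    (hEx : Cfsg.IsExtraspecial 2 ↥E) (hE7 : Nat.card ↥E = 2 ^ 7) : E.Normal := by
  classical
  haveI : Fact (Nat.Prime 2) := ⟨Nat.prime_two⟩
  obtain ⟨i⟩ := hT
  -- the centre of `T`
  set Z : Subgroup G := (center ↥(T : Subgroup G)).map (T : Subgroup G).subtype with hZdef
  have hZmem : ∀ z, z ∈ Z ↔ z ∈ (T : Subgroup G) ∧ ∀ t ∈ (T : Subgroup G), z * t = t * z := by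
    refine fun z => ⟨?_, fun hz => ⟨⟨z, hz.1⟩, mem_center_iff.2 fun t => Subtype.ext (hz.2 t t.2).symm, rfl⟩⟩
    rintro ⟨z, hz, rfl⟩
    exact ⟨z.2, fun t ht => (congrArg Subtype.val (mem_center_iff.1 hz ⟨t, ht⟩)).symm⟩
  have hZc : Z ≤ center G := fun z hz => hZ z ((hZmem z).1 hz).1 ((hZmem z).1 hz).2
  have hZT : Z ≤ (T : Subgroup G) := map_subtype_le _
  haveI hZn : Z.Normal := ⟨fun z hz g => by
    rw [mem_center_iff.1 (hZc hz) g, mul_inv_cancel_right]; exact hz⟩
  have hT1024 : Nat.card (T : Subgroup G) = 1024 := by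
    rw [Nat.card_congr i.toEquiv, P.card_eq_multiplicity, Cfsg.Lib.Golay.card_M24]
    have h1 := (Nat.prime_two).pow_dvd_iff_le_factorization (k := 10) (n := 244823040) (by norm_num)
    have h2 := (Nat.prime_two).pow_dvd_iff_le_factorization (k := 11) (n := 244823040) (by norm_num)
    have h10 := h1.mp (by norm_num)
    have h11 : ¬ 11 ≤ (244823040 : ℕ).factorization 2 := fun h => absurd (h2.mpr h) (by norm_num)
    rw [show (244823040 : ℕ).factorization 2 = 10 by omega]
    rfl
  obtain ⟨e, -⟩ := exists_equiv P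
  have hP2 : Nat.card (center ↥(P : Subgroup ↥Cfsg.M24)) = 2 := by
    have h := card_eq_card_quotient_mul_card_subgroup (center ↥(P : Subgroup ↥Cfsg.M24))
    rw [← Nat.card_congr i.toEquiv, hT1024, ← Nat.card_congr e, Nat.card_prod, Nat.card_fin, Nat.card_fin] at h
    omega
  have hZ2 : Nat.card Z = 2 := by
    rw [hZdef, card_map_of_injective (T : Subgroup G).subtype_injective]
    exact (Nat.card_congr (Subgroup.centerCongr i).toEquiv).trans hP2
  -- the centre of `E` is the centre of `T`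
  obtain ⟨⟨-, -, hcomm⟩, hcE⟩ := hEx
  set F : Subgroup G := (center ↥E).map E.subtype with hF
  have hF2 : Nat.card F = 2 := by rw [hF, card_map_of_injective E.subtype_injective, hcE]
  have hEconj : ∀ {t x : G}, t ∈ (T : Subgroup G) → x ∈ E → t * x * t⁻¹ ∈ E := fun ht hx =>
    hEn.conj_mem ⟨_, hE hx⟩ hx ⟨_, ht⟩
  have hFZ : F = Z := by
    refine eq_of_le_of_card_ge (fun f hf => ?_) (by rw [hF2, hZ2])
    obtain ⟨f, hfc, rfl⟩ := hf
    refine (hZmem _).2 ⟨hE f.2, fun t ht => ?_⟩
    have hmem' : t * (f : G) * t⁻¹ ∈ F := by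
      refine ⟨⟨_, hEconj ht f.2⟩, mem_center_iff.2 fun y => Subtype.ext ?_, rfl⟩
      have hy : t⁻¹ * (y : G) * t ∈ E := by
        have := hEconj (inv_mem ht) y.2
        rwa [inv_inv] at this
      have h1 : t⁻¹ * (y : G) * t * (f : G) = (f : G) * (t⁻¹ * y * t) :=
        congrArg Subtype.val (mem_center_iff.1 hfc ⟨_, hy⟩)
      calc (y : G) * (t * f * t⁻¹) = t * (t⁻¹ * y * t * f) * t⁻¹ := by group
        _ = t * ((f : G) * (t⁻¹ * y * t)) * t⁻¹ := by rw [h1]
        _ = (t * f * t⁻¹) * (y : G) := by group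
    by_cases hf1 : (f : G) = 1
    · show (f : G) * t = t * f
      rw [hf1, one_mul, mul_one]
    have hsub : ({1, (f : G)} : Set G) = (F : Set G) := by
      refine Set.eq_of_subset_of_ncard_le ?_ ?_ (Set.toFinite _)
      · rintro x (rfl | rfl)
        exacts [one_mem _, ⟨f, hfc, rfl⟩]
      · rw [← Nat.card_coe_set_eq, SetLike.coe_sort_coe, hF2, Set.ncard_pair (Ne.symm hf1)]
    have hx : t * (f : G) * t⁻¹ ∈ ({1, (f : G)} : Set G) := hsub ▸ hmem'
    rcases hx with h | h
    · exact absurd (conj_eq_one_iff.1 h) hf1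
    · exact (mul_inv_eq_iff_eq_mul.1 h).symm
  -- modulo the centre
  set π := QuotientGroup.mk' Z
  have hπ : Function.Surjective π := QuotientGroup.mk'_surjective Z
  set S' := T.mapSurjective hπ
  set A := E.map π
  have hAS : A ≤ (S' : Subgroup (G ⧸ Z)) := map_mono hE
  have hZE : Z ≤ E := hFZ ▸ map_subtype_le _
  have hA64 : Nat.card A = 64 := by
    have h := card_eq_card_quotient_mul_card_subgroup (Z.subgroupOf E)
    rw [hE7, Nat.card_congr (subgroupOfEquivOfLe hZE).toEquiv, hZ2] at h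
    have hker : (π.comp E.subtype).ker = Z.subgroupOf E := by
      rw [← MonoidHom.comap_ker, QuotientGroup.ker_mk']; rfl
    rw [show A = (π.comp E.subtype).range by rw [MonoidHom.range_comp, range_subtype],
      ← Nat.card_congr (QuotientGroup.quotientKerEquivRange (π.comp E.subtype)).toEquiv, hker]
    norm_num at h
    omega
  have hAc : IsMulCommutative A := by
    refine ⟨⟨?_⟩⟩
    rintro ⟨_, x, hx, rfl⟩ ⟨_, y, hy, rfl⟩
    refine Subtype.ext ?_
    show π x * π y = π y * π x
    rw [← map_mul, ← map_mul]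
    refine (QuotientGroup.eq_iff_div_mem).2 ?_
    have h1 : (⟨x, hx⟩ : E) * ⟨y, hy⟩ * (⟨x, hx⟩ : E)⁻¹ * (⟨y, hy⟩ : E)⁻¹ ∈ center ↥E := by
      rw [← hcomm, _root_.commutator_def]
      exact commutator_mem_commutator (mem_top (⟨x, hx⟩ : E)) (mem_top (⟨y, hy⟩ : E))
    have h2 : x * y * x⁻¹ * y⁻¹ ∈ F := ⟨_, h1, rfl⟩
    rw [hFZ] at h2
    rwa [div_eq_mul_inv, mul_inv_rev, ← mul_assoc]
  -- the type of the quotient
  have hS : Nonempty (↥(S' : Subgroup (G ⧸ Z)) ≃*
      (↥(P : Subgroup ↥Cfsg.M24) ⧸ center ↥(P : Subgroup ↥Cfsg.M24))) := by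
    have hker : (π.comp (T : Subgroup G).subtype).ker = center ↥(T : Subgroup G) := by
      rw [← MonoidHom.comap_ker, QuotientGroup.ker_mk', hZdef,
        comap_map_eq_self_of_injective (T : Subgroup G).subtype_injective]
    have hrange : (π.comp (T : Subgroup G).subtype).range = (S' : Subgroup (G ⧸ Z)) := by
      rw [MonoidHom.range_comp, range_subtype]; rfl
    have j := ((QuotientGroup.quotientMulEquivOfEq hker.symm).trans
      (QuotientGroup.quotientKerEquivRange (π.comp (T : Subgroup G).subtype))).trans (MulEquiv.subgroupCongr hrange)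
    refine ⟨j.symm.trans (QuotientGroup.congr _ _ i ?_)⟩
    ext y
    simp only [mem_map, MonoidHom.coe_coe, mem_center_iff]
    constructor
    · rintro ⟨x, hx, rfl⟩ g
      obtain ⟨g, rfl⟩ := i.surjective g
      rw [← map_mul, ← map_mul, hx]
    · intro hy
      obtain ⟨x, rfl⟩ := i.surjective y
      exact ⟨x, fun g => i.injective (by rw [map_mul, map_mul, hy]), rfl⟩
  -- the odd core of the quotient
  have hO' : Cfsg.oddCore (G ⧸ Z) = ⊥ := by
    set O := Cfsg.oddCore (G ⧸ Z)
    haveI : O.Normal := normal_of_mem_sSup_normal fun _ h => h.1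
    set N := O.comap π
    haveI : N.Normal := Normal.comap inferInstance π
    have hZN : Z ≤ N := fun z hz => by
      show π z ∈ O
      rw [show π z = 1 from (QuotientGroup.eq_one_iff z).2 hz]
      exact one_mem O
    have hOodd : Odd (Nat.card O) := Nat.coprime_two_right.1 (coprime_card_pPrimeCore (G := G ⧸ Z) 2)
    have hidx : (Z.subgroupOf N).index = Nat.card O := by
      have hker : (π.comp N.subtype).ker = Z.subgroupOf N := by
        rw [← MonoidHom.comap_ker, QuotientGroup.ker_mk']; rfl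
      rw [← hker, index_ker, MonoidHom.range_comp, range_subtype, map_comap_eq_self_of_surjective hπ]
    have hcard : Nat.card (Z.subgroupOf N) = 2 := by rw [Nat.card_congr (subgroupOfEquivOfLe hZN).toEquiv, hZ2]
    obtain ⟨K, hK⟩ := exists_right_complement'_of_coprime (N := Z.subgroupOf N)
      (by rw [hcard, hidx]; exact Nat.coprime_two_left.2 hOodd)
    have hKcard : Nat.card K = Nat.card O := by rw [← hidx, hK.symm.index_eq_card]
    have hKmem : ∀ n : N, n ∈ K ↔ Odd (orderOf n) := by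
      refine fun n => ⟨fun h => (hKcard ▸ hOodd).of_dvd_nat (Subgroup.orderOf_dvd_natCard K h), fun h => ?_⟩
      obtain ⟨⟨z, k⟩, hzk, -⟩ := hK.existsUnique n
      have hzc : Commute (z : N) (k : N) := Subtype.ext (mem_center_iff.1 (hZc z.2) (k : N)).symm
      have hz2 : (z : N) ^ 2 = 1 := by
        have := pow_card_eq_one' (G := ↥(Z.subgroupOf N)) (x := z)
        rw [hcard] at this
        exact congrArg Subtype.val this
      have h1 : (z : N) ^ orderOf n = 1 := by
        have hn : (z : N) ^ orderOf n * (k : N) ^ orderOf n = 1 := by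
          rw [← hzc.mul_pow, hzk, pow_orderOf_eq_one]
        have : (z : N) ^ orderOf n ∈ K := by
          rw [eq_inv_of_mul_eq_one_left hn]
          exact inv_mem (pow_mem k.2 _)
        exact (disjoint_def.1 hK.isCompl.disjoint (pow_mem z.2 _) this)
      obtain ⟨j, hj⟩ := h
      rw [hj, pow_succ, pow_mul, hz2, one_pow, one_mul] at h1
      rw [← hzk]
      show (z : N) * (k : N) ∈ K
      rw [h1, one_mul]
      exact k.2
    have hKn : (K.map N.subtype).Normal := ⟨fun x hx g => by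
      obtain ⟨n, hn, rfl⟩ := hx
      refine ⟨⟨g * n * g⁻¹, Normal.conj_mem inferInstance _ n.2 g⟩, (hKmem _).2 ?_, rfl⟩
      rw [← orderOf_injective N.subtype N.subtype_injective]
      show Odd (orderOf (g * (n : G) * g⁻¹))
      rw [← MulAut.conj_apply, ← MulEquiv.coe_toMonoidHom, orderOf_injective _ (MulAut.conj g).injective,
        Subgroup.orderOf_coe]
      exact (hKmem n).1 hn⟩
    have hKbot : K.map N.subtype = ⊥ := le_bot_iff.1 (hO ▸ le_sSup ⟨hKn, by
      rw [card_map_of_injective N.subtype_injective, hKcard]; exact Nat.coprime_two_right.2 hOodd⟩)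
    have h1 : Nat.card O = 1 := by
      rw [← hKcard, ← card_map_of_injective N.subtype_injective, hKbot, card_bot]
    exact card_eq_one.1 h1
  -- conclusion
  have huniq : ∀ B : Subgroup (G ⧸ Z), B ≤ (S' : Subgroup (G ⧸ Z)) → IsMulCommutative ↥B → Nat.card ↥B = 64 → B = A := by
    obtain ⟨j⟩ := hS
    intro B hB hBc hB64
    have key : ∀ C : Subgroup (G ⧸ Z), C ≤ (S' : Subgroup (G ⧸ Z)) → IsMulCommutative ↥C → Nat.card ↥C = 64 →
        IsMulCommutative ↥((C.subgroupOf (S' : Subgroup (G ⧸ Z))).map j.toMonoidHom) ∧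
          Nat.card ↥((C.subgroupOf (S' : Subgroup (G ⧸ Z))).map j.toMonoidHom) = 64 := by
      intro C hC hCc hC64
      refine ⟨⟨⟨?_⟩⟩, by rw [card_map_of_injective j.injective, Nat.card_congr (subgroupOfEquivOfLe hC).toEquiv, hC64]⟩
      rintro ⟨_, x, hx, rfl⟩ ⟨_, y, hy, rfl⟩
      refine Subtype.ext ?_
      show j x * j y = j y * j x
      rw [← map_mul, ← map_mul]
      refine congrArg j (Subtype.ext ?_)
      have h3 := hCc.is_comm.comm (⟨(x : G ⧸ Z), mem_subgroupOf.1 hx⟩ : C) ⟨(y : G ⧸ Z), mem_subgroupOf.1 hy⟩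
      exact congrArg (fun w : C => (w : G ⧸ Z)) h3
    obtain ⟨-, -, hu⟩ := Cfsg.Lib.Classical.MTwentyFour.main P
    obtain ⟨b1, b2⟩ := key B hB hBc hB64
    obtain ⟨a1, a2⟩ := key A hAS hAc hA64
    have h1 := map_injective j.injective (hu _ _ b1 b2 a1 a2)
    have h2 := congrArg (Subgroup.map (S' : Subgroup (G ⧸ Z)).subtype) h1
    rwa [subgroupOf_map_subtype, subgroupOf_map_subtype, inf_eq_left.2 hB, inf_eq_left.2 hAS] at h2
  haveI hAn : A.Normal := abelian_normal hO' S' P hS huniq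
  have : E = A.comap π := by
    rw [comap_map_eq, QuotientGroup.ker_mk', sup_eq_left.2 hZE]
  rw [this]
  exact Normal.comap hAn π

end Cfsg.Lib.MTwentyFourNormal
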