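import Cfsg.Agent.MTwentyFourNormal.Closed

/-!
The abelian subgroup of order 64 is strongly closed: no involution outside it is conjugate into it.
-/

set_option autoImplicit false
set_option linter.unusedSectionVars false
set_option linter.style.haveILetI false

namespace Cfsg.Lib.MTwentyFourNormal

open Subgroup

universe u

variable {G : Type u} [Group G] [Finite G]

local notation "cg" => fun g => MulEquiv.toMonoidHom (MulAut.conj g)

/-- An involution of `S` outside `A` conjugate into `A`. -/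
structure Bad (S : Sylow 2 G) (A : Subgroup G) (s : G) : Prop where
  mem : s ∈ (S : Subgroup G)
  notMem : s ∉ A
  sq : s * s = 1
  fused : ∃ g : G, g * s * g⁻¹ ∈ A

namespace Config

variable {S : Sylow 2 G} {A : Subgroup G} (C : Config S A)
include C

/-- An element of the centraliser of a bad involution normalising its centraliser in `S` from outside. -/
theorem exists_step {s : G} (h : Bad S A s) :
    ∃ R : Subgroup G, ∃ x ∈ R, cSub (S : Subgroup G) s ≤ R ∧ IsPGroup 2 R ∧ R ≤ centralizer ({s} : Set G) ∧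
      x ∉ cSub (S : Subgroup G) s ∧ x ∈ normalizer (cSub (S : Subgroup G) s : Set G) := by
  haveI : Fact (Nat.Prime 2) := ⟨Nat.prime_two⟩
  set X := cSub (S : Subgroup G) s
  obtain ⟨R, hXR, hRC, hR2, hmax⟩ := exists_max (M := centralizer ({s} : Set G))
    (S.2.to_le (inf_le_left : X ≤ (S : Subgroup G))) inf_le_right
  have hlt : X < R := by
    refine lt_of_le_of_ne hXR fun e => ?_
    obtain ⟨g, hg⟩ := h.fused
    have hAC : A.map (cg g⁻¹) ≤ centralizer ({s} : Set G) := by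
      rintro _ ⟨a, ha, rfl⟩
      refine mem_centralizer_singleton_iff.2 ?_
      show g⁻¹ * a * g⁻¹⁻¹ * s = s * (g⁻¹ * a * g⁻¹⁻¹)
      calc g⁻¹ * a * g⁻¹⁻¹ * s = g⁻¹ * (a * (g * s * g⁻¹)) * g := by group
        _ = g⁻¹ * ((g * s * g⁻¹) * a) * g := by rw [C.coord.part_comm ha hg]
        _ = _ := by group
    obtain ⟨c, hc, hcle⟩ := exists_conj_le hAC (C.isPGroup.map _) hRC hR2 hmax
    rw [← map_cg_mul] at hcle
    have h1 := C.map_eq (hcle.trans (e.symm.le.trans inf_le_left))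
    refine h.notMem (h1 ▸ ⟨_, hg, ?_⟩)
    show c * g⁻¹ * (g * s * g⁻¹) * (c * g⁻¹)⁻¹ = s
    rw [show c * g⁻¹ * (g * s * g⁻¹) * (c * g⁻¹)⁻¹ = c * s * c⁻¹ by group, mem_centralizer_singleton_iff.1 hc,
      mul_inv_cancel_right]
  haveI : Group.IsNilpotent R := hR2.isNilpotent
  have hlt' : X.subgroupOf R < ⊤ := lt_top_iff_ne_top.2 fun e => hlt.not_ge (subgroupOf_eq_top.1 e)
  obtain ⟨y, hy, hyX⟩ := SetLike.exists_of_lt (Group.normalizerCondition_of_isNilpotent (G := R) _ hlt')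
  refine ⟨R, y, y.2, hXR, hR2, hRC, hyX, normalizer_of_map_le ?_⟩
  rintro _ ⟨z, hz, rfl⟩
  exact (mem_normalizer_iff.1 hy ⟨z, hXR hz⟩).1 hz

/-- A bad involution whose step normalises its `bSub` gives a larger centraliser. -/
theorem exists_larger {s : G} (h : Bad S A s) {R : Subgroup G} {x : G} (hxR : x ∈ R)
    (hXR : cSub (S : Subgroup G) s ≤ R) (hR : IsPGroup 2 R) (hRC : R ≤ centralizer ({s} : Set G))
    (hxX : x ∉ cSub (S : Subgroup G) s) (hxB : x ∈ normalizer (bSub A s : Set G)) :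
    ∃ s', Bad S A s' ∧ Nat.card (cSub (S : Subgroup G) s) < Nat.card (cSub (S : Subgroup G) s') := by
  set Q := cSub (S : Subgroup G) s ⊔ zpowers x
  have hQR : Q ≤ R := sup_le hXR (zpowers_le.2 hxR)
  obtain ⟨g, hgS, hgA, -⟩ := C.exists_shift h.mem h.notMem h.sq (hR.to_le hQR)
    (sup_le (C.cSub_le_normalizer h.mem h.notMem h.sq) (zpowers_le.2 hxB))
    (mem_sup_left (mem_cSub.2 ⟨h.mem, rfl⟩))
  obtain ⟨g', hg'⟩ := h.fused
  refine ⟨g * s * g⁻¹, ⟨hgS (conj_mem_map (mem_sup_left (mem_cSub.2 ⟨h.mem, rfl⟩)) g), hgA,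
    by rw [show g * s * g⁻¹ * (g * s * g⁻¹) = g * (s * s) * g⁻¹ by group, h.sq, mul_one, mul_inv_cancel],
    g' * g⁻¹, by rwa [show g' * g⁻¹ * (g * s * g⁻¹) * (g' * g⁻¹)⁻¹ = g' * s * g'⁻¹ by group]⟩, ?_⟩
  have hlt : cSub (S : Subgroup G) s < Q := lt_of_le_of_ne le_sup_left fun e =>
    hxX (e ▸ mem_sup_right (mem_zpowers x))
  refine lt_of_lt_of_le (lt_of_not_ge fun hge => hlt.ne (eq_of_le_of_card_ge hlt.le hge))
    ((card_map_cg Q g).ge.trans (card_le_of_le (le_inf hgS ?_)))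
  rintro _ ⟨q, hq, rfl⟩
  refine mem_centralizer_singleton_iff.2 ?_
  show MulAut.conj g q * MulAut.conj g s = MulAut.conj g s * MulAut.conj g q
  rw [← map_mul, ← map_mul, mem_centralizer_singleton_iff.1 (hRC (hQR hq))]

/-- The square of a 2-element of the normaliser of `vSub A s` centralises it. -/
theorem sq_fix {s : G} (h : Bad S A s)
    (hbound : ∀ s', Bad S A s' → Nat.card ((S : Subgroup G) ⊓ normalizer (vSub A s' : Set G) : Subgroup G) ≤
      Nat.card ((S : Subgroup G) ⊓ normalizer (vSub A s : Set G) : Subgroup G))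
    {y : G} (hy : y ∈ normalizer (vSub A s : Set G)) (hyp : IsPGroup 2 (zpowers y)) {v : G} (hv : v ∈ vSub A s) :
    y * y * v = v * (y * y) := by
  haveI : Fact (Nat.Prime 2) := ⟨Nat.prime_two⟩
  set V := vSub A s with hV
  set N := (S : Subgroup G) ⊓ normalizer (V : Set G) with hN
  have hAN : A ≤ N := fun a ha => ⟨C.le ha, C.coord.near_le_normalizer h.mem h.notMem h.sq (C.le ha) (by
    have h1 := C.coord.normal h.mem (inv_mem ha)
    rw [show a * s * a⁻¹ * s⁻¹ = a * (s * a⁻¹ * s⁻¹) by group]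
    exact mul_mem ha h1)⟩
  obtain ⟨R, hNR, hRV, hR2, hmax⟩ := exists_max (M := normalizer (V : Set G))
    (S.2.to_le (inf_le_left : N ≤ (S : Subgroup G))) inf_le_right
  have hRN : R = N := by
    by_contra hne
    have hlt : N < R := lt_of_le_of_ne hNR (Ne.symm hne)
    haveI : Group.IsNilpotent R := hR2.isNilpotent
    have hlt' : N.subgroupOf R < ⊤ := lt_top_iff_ne_top.2 fun e => hlt.not_ge (subgroupOf_eq_top.1 e)
    obtain ⟨q, hq, hqN⟩ := SetLike.exists_of_lt (Group.normalizerCondition_of_isNilpotent (G := R) _ hlt')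
    have hqnN : (q : G) ∈ normalizer (N : Set G) := normalizer_of_map_le (by
      rintro _ ⟨z, hz, rfl⟩
      exact (mem_normalizer_iff.1 hq ⟨z, hNR hz⟩).1 hz)
    have hqA : (q : G) ∈ normalizer (A : Set G) := C.mem_normalizer (by
      rintro _ ⟨z, hz, rfl⟩
      exact (conj_of_normalizer hqnN (hAN hz)).1)
    have hBi : bSub A s = A ⊓ V := C.bSub_eq_inf h.mem h.notMem h.sq
    have hqB : (q : G) ∈ normalizer (bSub A s : Set G) := normalizer_of_map_le (by
      rintro _ ⟨z, hz, rfl⟩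
      rw [hBi] at hz ⊢
      exact ⟨conj_of_normalizer hqA hz.1, conj_of_normalizer (hRV q.2) hz.2⟩)
    have hNB : N ≤ normalizer (bSub A s : Set G) := fun n hn => normalizer_of_map_le (by
      rintro _ ⟨z, hz, rfl⟩
      rw [hBi] at hz ⊢
      exact ⟨C.coord.normal hn.1 hz.1, conj_of_normalizer hn.2 hz.2⟩)
    set Q := N ⊔ zpowers (q : G) with hQ
    have hsN : s ∈ N := C.cSub_le_nm h.mem h.notMem h.sq (mem_cSub.2 ⟨h.mem, rfl⟩)
    obtain ⟨g, hgS, hgA, hgV⟩ := C.exists_shift h.mem h.notMem h.sq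
      (hR2.to_le (sup_le hNR (zpowers_le.2 q.2) : Q ≤ R)) (sup_le hNB (zpowers_le.2 hqB)) (mem_sup_left hsN)
    obtain ⟨g', hg'⟩ := h.fused
    have hb := hbound (g * s * g⁻¹) ⟨hgS (conj_mem_map (mem_sup_left hsN) g), hgA,
      by rw [show g * s * g⁻¹ * (g * s * g⁻¹) = g * (s * s) * g⁻¹ by group, h.sq, mul_one, mul_inv_cancel],
      g' * g⁻¹, by rwa [show g' * g⁻¹ * (g * s * g⁻¹) * (g' * g⁻¹)⁻¹ = g' * s * g'⁻¹ by group]⟩
    have hQV : Q ≤ normalizer (V : Set G) := sup_le inf_le_right (zpowers_le.2 (hRV q.2))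
    have hle : Q.map (cg g) ≤ (S : Subgroup G) ⊓ normalizer (vSub A (g * s * g⁻¹) : Set G) := by
      refine le_inf hgS ?_
      rintro _ ⟨z, hz, rfl⟩
      rw [← hgV]
      exact normalizer_of_map_le (by
        rintro _ ⟨_, ⟨v, hv, rfl⟩, rfl⟩
        refine ⟨z * v * z⁻¹, conj_of_normalizer (hQV hz) hv, ?_⟩
        show g * (z * v * z⁻¹) * g⁻¹ = g * z * g⁻¹ * (g * v * g⁻¹) * (g * z * g⁻¹)⁻¹
        group)
    have h1 := ((card_map_cg Q g).ge.trans (card_le_of_le hle)).trans hb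
    exact hqN (show (q : G) ∈ N from (eq_of_le_of_card_ge (le_sup_left : N ≤ Q) h1) ▸
      mem_sup_right (mem_zpowers (q : G)))
  obtain ⟨m, hm, hmle⟩ := exists_conj_le (zpowers_le.2 hy) hyp hRV hR2 hmax
  have hy' := hmle (conj_mem_map (mem_zpowers y) m)
  rw [hRN] at hy'
  have h1 : m * y * m⁻¹ * (m * y * m⁻¹) ∈ V := C.coord.sq_nm h.mem h.notMem h.sq hy'.1 hy'.2
  have h3 := C.vSub_comm h.mem h.notMem h.sq h1 (conj_of_normalizer hm hv)
  rw [show m * y * m⁻¹ * (m * y * m⁻¹) * (m * v * m⁻¹) = m * (y * y * v) * m⁻¹ by group,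
    show m * v * m⁻¹ * (m * y * m⁻¹ * (m * y * m⁻¹)) = m * (v * (y * y)) * m⁻¹ by group] at h3
  exact mul_left_cancel (mul_right_cancel h3)

/-- The normaliser of `vSub A s` normalises `bSub A s`. -/
theorem vSub_norm {s : G} (h : Bad S A s)
    (hbound : ∀ s', Bad S A s' → Nat.card ((S : Subgroup G) ⊓ normalizer (vSub A s' : Set G) : Subgroup G) ≤
      Nat.card ((S : Subgroup G) ⊓ normalizer (vSub A s : Set G) : Subgroup G))
    {x : G} (hx : x ∈ normalizer (vSub A s : Set G)) : x ∈ normalizer (bSub A s : Set G) := by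
  haveI : Fact (Nat.Prime 2) := ⟨Nat.prime_two⟩
  set V := vSub A s with hV
  set B := bSub A s with hB
  have hBA : B ≤ A := inf_le_left
  have hBV : B ≤ V := le_sup_left
  have hVc : ∀ v ∈ V, ∀ w ∈ V, v * w = w * v := fun v hv w hw => C.vSub_comm h.mem h.notMem h.sq hv hw
  have hV2 : ∀ v ∈ V, v * v = 1 := fun v hv => by
    rcases (C.coord.mem_vSub h.mem h.notMem h.sq).1 hv with hb | hb
    · exact C.coord.part_sq (hBA hb)
    · have h2' := C.coord.part_sq (hBA hb)
      rw [(show v * s * (v * s) = v * (s * v) * s by group), hVc s (mem_sup_right (mem_zpowers s)) v hv,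
        show v * (v * s) * s = v * v * (s * s) by group, h.sq, mul_one] at h2'
      exact h2'
  have hcoset : ∀ {v}, v ∈ V → v ∉ B → v * s ∈ B := fun hv hn =>
    ((C.coord.mem_vSub h.mem h.notMem h.sq).1 hv).resolve_left hn
  -- the images under `x`
  set s' := x * s * x⁻¹ with hs'
  have hs'V : s' ∈ V := conj_of_normalizer hx (mem_sup_right (mem_zpowers s))
  have hcm : ∀ a ∈ A, s * a * s⁻¹ * a⁻¹ ∈ B := fun a ha => C.coord.cmt_mem_bSub h.mem h.notMem h.sq ha
  -- the action of an element of `A`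
  have hact : ∀ a ∈ A, ∀ b ∈ B, a * b * a⁻¹ = b := fun a ha b hb => by
    rw [C.coord.part_comm ha (hBA hb), mul_inv_cancel_right]
  have hact_s : ∀ a ∈ A, a * s * a⁻¹ = s * a * s⁻¹ * a⁻¹ * s := fun a ha => by
    have e : s * a * s⁻¹ * a⁻¹ = (s * a * s⁻¹ * a⁻¹)⁻¹ :=
      (inv_eq_of_mul_eq_one_left (C.coord.part_sq (hBA (hcm a ha)))).symm
    rw [e]; group
  -- every commutator of `s'` lies in `B`
  have step : ∀ a' ∈ A, x * (s * a' * s⁻¹ * a'⁻¹) * x⁻¹ ∈ B := by
    by_contra hcon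
    push Not at hcon
    obtain ⟨a₁, ha₁, hc'⟩ := hcon
    set c' := x * (s * a₁ * s⁻¹ * a₁⁻¹) * x⁻¹ with hc'def
    have hc'V : c' ∈ V := conj_of_normalizer hx (hBV (hcm a₁ ha₁))
    -- a commutator of `s` fixed by the image of `B`
    obtain ⟨a, ha, hc1, hcB'⟩ : ∃ a ∈ A, s * a * s⁻¹ * a⁻¹ ≠ 1 ∧ x⁻¹ * (s * a * s⁻¹ * a⁻¹) * x ∈ B := by
      obtain ⟨a, ha, b, hb, e1, e2, e3⟩ := C.coord.exists_cmt_pair h.mem h.notMem h.sq
      have key : ∀ {w}, w ∈ B → x⁻¹ * w * x ∈ V := fun hw => by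
        have := conj_of_normalizer (inv_mem hx) (hBV hw)
        rwa [inv_inv] at this
      by_cases fa : x⁻¹ * (s * a * s⁻¹ * a⁻¹) * x ∈ B
      · exact ⟨a, ha, e1, fa⟩
      by_cases fb : x⁻¹ * (s * b * s⁻¹ * b⁻¹) * x ∈ B
      · exact ⟨b, hb, e2, fb⟩
      refine ⟨a * b, mul_mem ha hb, e3, ?_⟩
      have em : s * (a * b) * s⁻¹ * (a * b)⁻¹ = (s * a * s⁻¹ * a⁻¹) * (s * b * s⁻¹ * b⁻¹) := by
        rw [show s * (a * b) * s⁻¹ * (a * b)⁻¹ = (s * a * s⁻¹ * a⁻¹) * (a * (s * b * s⁻¹ * b⁻¹) * a⁻¹) by group,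
          hact a ha _ (hcm b hb)]
      have u1 := hcoset (key (hcm a ha)) fa
      have u2 := hcoset (key (hcm b hb)) fb
      have u3 := mul_mem u1 u2
      have e : ∀ p q : G, p ∈ V → q ∈ V → p * s * (q * s) = p * q := fun p q hp hq => by
        rw [show p * s * (q * s) = p * (s * q) * s by group, hVc s (mem_sup_right (mem_zpowers s)) q hq,
          show p * (q * s) * s = p * q * (s * s) by group, h.sq, mul_one]
      rw [e _ _ (key (hcm a ha)) (key (hcm b hb))] at u3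
      rw [em, show x⁻¹ * (s * a * s⁻¹ * a⁻¹ * (s * b * s⁻¹ * b⁻¹)) * x =
        x⁻¹ * (s * a * s⁻¹ * a⁻¹) * x * (x⁻¹ * (s * b * s⁻¹ * b⁻¹) * x) by group]
      exact u3
    set c := s * a * s⁻¹ * a⁻¹ with hcdef
    set a' := x * a₁ * x⁻¹ with ha'
    have hfix' : ∀ b ∈ B, a' * (x * b * x⁻¹) * a'⁻¹ = x * b * x⁻¹ := fun b hb => by
      rw [ha', show x * a₁ * x⁻¹ * (x * b * x⁻¹) * (x * a₁ * x⁻¹)⁻¹ = x * (a₁ * b * a₁⁻¹) * x⁻¹ by group,
        hact a₁ ha₁ b hb]
    have hmove' : a' * s' * a'⁻¹ = c' * s' := by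
      rw [ha', hs', hc'def, show x * a₁ * x⁻¹ * (x * s * x⁻¹) * (x * a₁ * x⁻¹)⁻¹ = x * (a₁ * s * a₁⁻¹) * x⁻¹ by group,
        hact_s a₁ ha₁]
      group
    have hmove : ∀ v ∈ V, a * v * a⁻¹ = v ∨ a * v * a⁻¹ = c * v := fun v hv => by
      by_cases hvB : v ∈ B
      · exact Or.inl (hact a ha v hvB)
      · right
        have hvs := hcoset hv hvB
        rw [show a * v * a⁻¹ = a * (v * s) * a⁻¹ * (a * s⁻¹ * a⁻¹) by group, hact a ha _ hvs,
          inv_eq_of_mul_eq_one_left h.sq, hact_s a ha, ← hcdef,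
          show v * s * (c * s) = v * s * c * s by group,
          show v * s * c = c * (v * s) from C.coord.part_comm (hBA hvs) (hBA (hcm a ha)),
          show c * (v * s) * s = c * v * (s * s) by group, h.sq, mul_one]
    have hcV : c ∈ V := hBV (hcm a ha)
    have hmove_c' : a * c' * a⁻¹ = c * c' := by
      have hvs := hcoset hc'V hc'
      rw [show a * c' * a⁻¹ = a * (c' * s) * a⁻¹ * (a * s⁻¹ * a⁻¹) by group, hact a ha _ hvs,
        inv_eq_of_mul_eq_one_left h.sq, hact_s a ha, ← hcdef,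
        show c' * s * (c * s) = c' * s * c * s by group,
        show c' * s * c = c * (c' * s) from C.coord.part_comm (hBA hvs) (hBA (hcm a ha)),
        show c * (c' * s) * s = c * c' * (s * s) by group, h.sq, mul_one]
    -- the product
    set y := a * a' with hy
    have yconj : ∀ v, y * v * y⁻¹ = a * (a' * v * a'⁻¹) * a⁻¹ := fun v => by rw [hy]; group
    have yc : y * c * y⁻¹ = c := by
      have := hfix' _ hcB'
      rw [show x * (x⁻¹ * c * x) * x⁻¹ = c by group] at this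
      rw [yconj, this, hact a ha c (hcm a ha)]
    have yc' : y * c' * y⁻¹ = c * c' := by
      rw [yconj, hc'def, hfix' _ (hcm a₁ ha₁), ← hc'def, hmove_c']
    have yy : y * (y * s' * y⁻¹) * y⁻¹ = c * s' := by
      have hm : ∀ p q : G, y * (p * q) * y⁻¹ = (y * p * y⁻¹) * (y * q * y⁻¹) := fun p q => by group
      have hcc : c * c = 1 := hV2 c hcV
      have hc'c' : c' * c' = 1 := hV2 c' hc'V
      rcases hmove s' hs'V with e | e
      · have hy1 : y * s' * y⁻¹ = c * c' * s' := by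
          rw [yconj, hmove', show a * (c' * s') * a⁻¹ = a * c' * a⁻¹ * (a * s' * a⁻¹) by group, hmove_c', e]
        rw [hy1, hm, hm, yc, yc', hy1, show c * (c * c') * (c * c' * s') = (c * c) * ((c' * c) * c') * s' by group,
          hVc c' hc'V c hcV, hcc, one_mul, mul_assoc c c' c', hc'c', mul_one]
      · have hy1 : y * s' * y⁻¹ = c' * s' := by
          rw [yconj, hmove', show a * (c' * s') * a⁻¹ = a * c' * a⁻¹ * (a * s' * a⁻¹) by group, hmove_c', e,
            show c * c' * (c * s') = c * (c' * c) * s' by group, hVc c' hc'V c hcV,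
            show c * (c * c') * s' = c * c * c' * s' by group, hcc, one_mul]
        rw [hy1, hm, yc', hy1, mul_assoc c c', ← mul_assoc c' c', hc'c', one_mul]
    have hyN : y ∈ normalizer (V : Set G) := by
      have hAN : ∀ b ∈ A, b ∈ normalizer (V : Set G) := fun b hb =>
        C.coord.near_le_normalizer h.mem h.notMem h.sq (C.le hb) (by
          have h1 := C.coord.normal h.mem (inv_mem hb)
          rw [show b * s * b⁻¹ * s⁻¹ = b * (s * b⁻¹ * s⁻¹) by group]
          exact mul_mem hb h1)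
      exact mul_mem (hAN a ha) (mul_mem (mul_mem hx (hAN a₁ ha₁)) (inv_mem hx))
    -- the action of `y ^ 2` is an involution; a 2-element has the same action
    have hsq_b : ∀ b ∈ B, y * y * (x * b * x⁻¹) * (y * y)⁻¹ = x * b * x⁻¹ := by
      intro b hb
      rw [show y * y * (x * b * x⁻¹) * (y * y)⁻¹ = y * (y * (x * b * x⁻¹) * y⁻¹) * y⁻¹ by group, yconj (x * b * x⁻¹),
        hfix' b hb]
      rcases hmove (x * b * x⁻¹) (conj_of_normalizer hx (hBV hb)) with e | e
      · rw [e, yconj, hfix' b hb, e]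
      · rw [e, show y * (c * (x * b * x⁻¹)) * y⁻¹ = y * c * y⁻¹ * (y * (x * b * x⁻¹) * y⁻¹) by group, yc,
          yconj (x * b * x⁻¹), hfix' b hb, e, ← mul_assoc, hV2 c hcV, one_mul]
    have hsq_c : y * y * c * (y * y)⁻¹ = c := by
      rw [show y * y * c * (y * y)⁻¹ = y * (y * c * y⁻¹) * y⁻¹ by group, yc, yc]
    have hsq_s : y * y * s' * (y * y)⁻¹ = c * s' := by
      rw [show y * y * s' * (y * y)⁻¹ = y * (y * s' * y⁻¹) * y⁻¹ by group, yy]
    obtain ⟨k, n, hn, hkn⟩ := Nat.exists_eq_two_pow_mul_odd (orderOf_pos y).ne'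
    have hw2 : IsPGroup 2 (zpowers (y ^ n)) := by
      intro z
      obtain ⟨i, hi⟩ := mem_zpowers_iff.1 z.2
      refine ⟨k, Subtype.ext ?_⟩
      show (z : G) ^ 2 ^ k = 1
      rw [← hi, ← _root_.zpow_natCast ((y ^ n) ^ i), ← _root_.zpow_mul, mul_comm, _root_.zpow_mul,
        _root_.zpow_natCast, ← pow_mul, mul_comm n, ← hkn, pow_orderOf_eq_one, one_zpow]
    have hfixes := C.sq_fix h hbound (pow_mem hyN n) hw2 hs'V
    obtain ⟨j, hj⟩ := hn
    rw [← (Commute.refl y).mul_pow n, ← mul_inv_eq_iff_eq_mul, hj, pow_succ', pow_mul, pow_two (y * y)] at hfixes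
    have he : ∀ i : ℕ, (y * y * (y * y)) ^ i * s' * ((y * y * (y * y)) ^ i)⁻¹ = s' := by
      intro i
      induction i with
      | zero => simp
      | succ i ih =>
        rw [pow_succ, show (y * y * (y * y)) ^ i * (y * y * (y * y)) * s' * ((y * y * (y * y)) ^ i * (y * y * (y * y)))⁻¹ =
          (y * y * (y * y)) ^ i * ((y * y) * (y * y * s' * (y * y)⁻¹) * (y * y)⁻¹) * ((y * y * (y * y)) ^ i)⁻¹ by
            group, hsq_s,
          show y * y * (c * s') * (y * y)⁻¹ = y * y * c * (y * y)⁻¹ * (y * y * s' * (y * y)⁻¹) by group,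
          hsq_c, hsq_s, ← mul_assoc c c s', hV2 c hcV, one_mul, ih]
    rw [show y * y * (y * y * (y * y)) ^ j * s' * (y * y * (y * y * (y * y)) ^ j)⁻¹ =
      y * y * ((y * y * (y * y)) ^ j * s' * ((y * y * (y * y)) ^ j)⁻¹) * (y * y)⁻¹ by group, he, hsq_s] at hfixes
    exact hc1 (by simpa using hfixes)
  -- so the image of `A` normalises `B`
  have hA'B : A.map (cg x) ≤ normalizer (B : Set G) := by
    rintro _ ⟨a₁, ha₁, rfl⟩
    refine normalizer_of_map_le ?_
    rintro _ ⟨b, hb, rfl⟩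
    show x * a₁ * x⁻¹ * b * (x * a₁ * x⁻¹)⁻¹ ∈ B
    have hbV : x⁻¹ * b * x ∈ V := by
      have := conj_of_normalizer (inv_mem hx) (hBV hb)
      rwa [inv_inv] at this
    by_cases hbB : x⁻¹ * b * x ∈ B
    · rw [show x * a₁ * x⁻¹ * b * (x * a₁ * x⁻¹)⁻¹ = x * (a₁ * (x⁻¹ * b * x) * a₁⁻¹) * x⁻¹ by group,
        hact a₁ ha₁ _ hbB, show x * (x⁻¹ * b * x) * x⁻¹ = b by group]
      exact hb
    · have hw := hcoset hbV hbB
      rw [show x * a₁ * x⁻¹ * b * (x * a₁ * x⁻¹)⁻¹ =
        x * (a₁ * (x⁻¹ * b * x * s) * a₁⁻¹ * (a₁ * s⁻¹ * a₁⁻¹)) * x⁻¹ by group, hact a₁ ha₁ _ hw,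
        inv_eq_of_mul_eq_one_left h.sq, hact_s a₁ ha₁,
        show x⁻¹ * b * x * s * (s * a₁ * s⁻¹ * a₁⁻¹ * s) = x⁻¹ * b * x * s * (s * a₁ * s⁻¹ * a₁⁻¹) * s by group,
        show x⁻¹ * b * x * s * (s * a₁ * s⁻¹ * a₁⁻¹) = (s * a₁ * s⁻¹ * a₁⁻¹) * (x⁻¹ * b * x * s) from
          C.coord.part_comm (hBA hw) (hBA (hcm a₁ ha₁)),
        show x * ((s * a₁ * s⁻¹ * a₁⁻¹) * (x⁻¹ * b * x * s) * s) * x⁻¹ =
          x * (s * a₁ * s⁻¹ * a₁⁻¹) * x⁻¹ * b * (x * (s * s) * x⁻¹) by group, h.sq, mul_one, mul_inv_cancel, mul_one]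
      exact mul_mem (step a₁ ha₁) hb
  -- Sylow in the common normaliser
  have hAV : A ≤ normalizer (V : Set G) := fun b hb => C.coord.near_le_normalizer h.mem h.notMem h.sq (C.le hb) (by
    have h1 := C.coord.normal h.mem (inv_mem hb)
    rw [show b * s * b⁻¹ * s⁻¹ = b * (s * b⁻¹ * s⁻¹) by group]
    exact mul_mem hb h1)
  have hAW : A ≤ normalizer (B : Set G) ⊓ normalizer (V : Set G) := le_inf (fun a ha => normalizer_of_map_le (by
    rintro _ ⟨b, hb, rfl⟩
    show a * b * a⁻¹ ∈ B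
    rw [hact a ha b hb]
    exact hb)) hAV
  obtain ⟨R, hAR, hRW, hR2, hmax⟩ := exists_max C.isPGroup hAW
  have hA'W : A.map (cg x) ≤ normalizer (B : Set G) ⊓ normalizer (V : Set G) := le_inf hA'B (by
    rintro _ ⟨a, ha, rfl⟩
    exact mul_mem (mul_mem hx (hAV ha)) (inv_mem hx))
  obtain ⟨m, hm, hmle⟩ := exists_conj_le hA'W (C.isPGroup.map _) hRW hR2 hmax
  obtain ⟨g, hg, hgS⟩ := C.exists_into hR2 hAR
  rw [← map_cg_mul] at hmle
  have h1 : g * (m * x) ∈ normalizer (A : Set G) := C.mem_normalizer (by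
    rw [map_cg_mul]
    exact (map_mono hmle).trans hgS)
  have h2 : m * x ∈ normalizer (A : Set G) := by
    have := mul_mem (inv_mem hg) h1
    rwa [inv_mul_cancel_left] at this
  have h3 : m * x ∈ normalizer (B : Set G) := normalizer_of_map_le (by
    rintro _ ⟨b, hb, rfl⟩
    rw [hB, C.bSub_eq_inf h.mem h.notMem h.sq] at hb ⊢
    exact ⟨conj_of_normalizer h2 hb.1, conj_of_normalizer (mul_mem hm.2 hx) hb.2⟩)
  have := (normalizer (B : Set G)).mul_mem ((normalizer (B : Set G)).inv_mem hm.1) h3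
  rwa [inv_mul_cancel_left] at this

/-- No central involution is bad. -/
theorem not_bad_central {s : G} (h : Bad S A s) : ¬ Cen (S : Subgroup G) A s := by
  intro hcen
  obtain ⟨R, x, hxR, hXR, hR2, hRC, hxX, hxN⟩ := C.exists_step h
  have hxs : x * s = s * x := mem_centralizer_singleton_iff.1 (hRC hxR)
  have hbound : ∀ s', Bad S A s' → Nat.card ((S : Subgroup G) ⊓ normalizer (vSub A s' : Set G) : Subgroup G) ≤
      Nat.card ((S : Subgroup G) ⊓ normalizer (vSub A s : Set G) : Subgroup G) := fun s' _ => by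
    rw [inf_eq_left.2 ((C.coord.card_nm h.mem h.notMem h.sq).1 hcen)]
    exact card_le_of_le inf_le_left
  have hxV : x ∈ normalizer (vSub A s : Set G) := by
    refine normalizer_of_map_le ?_
    rw [vSub, Subgroup.map_sup]
    refine sup_le ?_ ?_
    · rintro _ ⟨b, hb, rfl⟩
      obtain ⟨b₁, hb₁, b₂, hb₂, g1, g2, rfl⟩ := C.coord.exists_short h.mem h.notMem h.sq hcen hb
      have key : ∀ b ∈ bSub A s, Short (cSub (S : Subgroup G) s) b → x * b * x⁻¹ ∈ bSub A s ⊔ zpowers s := by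
        intro b hb hsh
        have hbX : b ∈ cSub (S : Subgroup G) s := mem_cSub.2 ⟨C.le hb.1, (mem_bSub.1 hb).2⟩
        have hxb := conj_of_normalizer hxN hbX
        have hsh' : Short (cSub (S : Subgroup G) s) (x * b * x⁻¹) := by
          obtain ⟨b', hb'⟩ := hsh
          refine ⟨x * b' * x⁻¹, fun y hy => ?_⟩
          have hy' := conj_of_normalizer (inv_mem hxN) hy
          rw [inv_inv] at hy'
          have e : y * (x * b * x⁻¹) * y⁻¹ = x * ((x⁻¹ * y * x) * b * (x⁻¹ * y * x)⁻¹) * x⁻¹ := by group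
          rcases hb' _ hy' with e' | e'
          · exact Or.inl (by rw [e, e'])
          · exact Or.inr (by rw [e, e'])
        refine (C.coord.mem_vSub h.mem h.notMem h.sq).2 ?_
        by_cases c1 : x * b * x⁻¹ ∈ A
        · exact Or.inl (mem_bSub.2 ⟨c1, (mem_cSub.1 hxb).2⟩)
        by_cases c2 : x * b * x⁻¹ * s ∈ A
        · exact Or.inr (mem_bSub.2 ⟨c2, ((show Commute (x * b * x⁻¹) s from (mem_cSub.1 hxb).2).mul_left
            (Commute.refl s)).eq⟩)
        exact absurd hsh' (C.coord.not_short h.mem h.notMem h.sq hcen hxb c1 c2)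
      show x * (b₁ * b₂) * x⁻¹ ∈ _
      rw [show x * (b₁ * b₂) * x⁻¹ = x * b₁ * x⁻¹ * (x * b₂ * x⁻¹) by group]
      exact mul_mem (key b₁ hb₁ g1) (key b₂ hb₂ g2)
    · rw [MonoidHom.map_zpowers, zpowers_le]
      show x * s * x⁻¹ ∈ _
      rw [hxs, mul_inv_cancel_right]
      exact mem_sup_right (mem_zpowers s)
  obtain ⟨s', hs', hlt⟩ := C.exists_larger h hxR hXR hR2 hRC hxX (C.vSub_norm h hbound hxV)
  rw [(C.coord.card_cSub h.mem h.notMem h.sq).1 hcen] at hlt
  have hk := C.coord.card_cSub hs'.mem hs'.notMem hs'.sq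
  by_cases hc : Cen (S : Subgroup G) A s'
  · rw [hk.1 hc] at hlt; omega
  · rw [hk.2 hc] at hlt; omega

/-- No involution is bad. -/
theorem not_bad {s : G} (h : Bad S A s) : False := by
  haveI : Fact (Nat.Prime 2) := ⟨Nat.prime_two⟩
  have hcen := fun {t} (ht : Bad S A t) => C.not_bad_central ht
  obtain ⟨R, x, hxR, hXR, hR2, hRC, hxX, hxN⟩ := C.exists_step h
  have hxs : x * s = s * x := mem_centralizer_singleton_iff.1 (hRC hxR)
  set N := (S : Subgroup G) ⊓ normalizer (vSub A s : Set G) with hN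
  have hN256 : Nat.card N = 256 := (C.coord.card_nm h.mem h.notMem h.sq).2 (hcen h)
  by_cases hxV : x ∈ normalizer (vSub A s : Set G)
  · have hbound : ∀ s', Bad S A s' → Nat.card ((S : Subgroup G) ⊓ normalizer (vSub A s' : Set G) : Subgroup G) ≤
        Nat.card N := fun s' hs' => by
      rw [hN256, (C.coord.card_nm hs'.mem hs'.notMem hs'.sq).2 (hcen hs')]
    obtain ⟨s', hs', hlt⟩ := C.exists_larger h hxR hXR hR2 hRC hxX (C.vSub_norm h hbound hxV)
    rw [(C.coord.card_cSub h.mem h.notMem h.sq).2 (hcen h),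
      (C.coord.card_cSub hs'.mem hs'.notMem hs'.sq).2 (hcen hs')] at hlt
    exact lt_irrefl _ hlt
  obtain ⟨z, hz, hzc, hzA, hzs, hT8, hTN, hcom⟩ := C.coord.noncentral_data h.mem h.notMem h.sq (hcen h)
  set T := bSub A s ⊓ centralizer ({z} : Set G) with hT
  have hTA : T ≤ A := inf_le_left.trans inf_le_left
  -- the image of `vSub A s`
  set U := (vSub A s).map (cg x) with hU
  have hVX : vSub A s ≤ cSub (S : Subgroup G) s := sup_le
    (fun b hb => mem_cSub.2 ⟨C.le hb.1, (mem_bSub.1 hb).2⟩) (zpowers_le.2 (mem_cSub.2 ⟨h.mem, rfl⟩))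
  have hUX : U ≤ cSub (S : Subgroup G) s := by
    rintro _ ⟨v, hv, rfl⟩
    exact conj_of_normalizer hxN (hVX hv)
  have hUN : U ≤ N := hUX.trans (C.cSub_le_nm h.mem h.notMem h.sq)
  have hV32 : 32 ≤ Nat.card (vSub A s) := by
    have hlt : bSub A s < vSub A s := lt_of_le_of_ne le_sup_left fun e =>
      h.notMem ((e ▸ mem_sup_right (mem_zpowers s) : s ∈ bSub A s)).1
    obtain ⟨k, hk⟩ := card_dvd_of_le hlt.le
    have h16 := C.coord.card_bSub h.mem h.notMem h.sq
    have hne : Nat.card (vSub A s) ≠ 16 := fun e => hlt.ne (eq_of_le_of_card_ge hlt.le (by rw [e, h16]))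
    have hpos : 0 < Nat.card (vSub A s) := Nat.card_pos
    rw [h16] at hk
    omega
  -- `U` has an element outside `A` and `A s`
  obtain ⟨u, hu, huA, huS⟩ : ∃ u ∈ U, u ∉ A ∧ u * s ∉ A := by
    by_contra hcon
    push Not at hcon
    refine hxV (normalizer_of_map_le fun u hu => (C.coord.mem_vSub h.mem h.notMem h.sq).2 ?_)
    by_cases hc : u ∈ A
    · exact Or.inl (mem_bSub.2 ⟨hc, (mem_cSub.1 (hUX hu)).2⟩)
    · refine Or.inr (mem_bSub.2 ⟨hcon u hu hc, ?_⟩)
      rw [(mem_cSub.1 (hUX hu)).2, mul_assoc, (mem_cSub.1 (hUX hu)).2]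
  have hUc : ∀ v ∈ U, ∀ w ∈ U, v * w = w * v := by
    rintro _ ⟨v, hv, rfl⟩ _ ⟨w, hw, rfl⟩
    show MulAut.conj x v * MulAut.conj x w = MulAut.conj x w * MulAut.conj x v
    rw [← map_mul, ← map_mul, C.vSub_comm h.mem h.notMem h.sq hv hw]
  have hUA : U ⊓ A ≤ T := fun b hb => by
    have hbs := (mem_cSub.1 (hUX hb.1)).2
    refine ⟨mem_bSub.2 ⟨hb.2, hbs⟩, mem_centralizer_singleton_iff.2 ?_⟩
    have hbu : Commute b u := hUc b hb.1 u hu
    have hba : ∀ a ∈ A, Commute b a := fun a ha => C.coord.part_comm hb.2 ha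
    rcases (hTN u (hUN hu)).2 with e | e | e | e
    · exact absurd e huA
    · exact absurd e huS
    · have e1 : Commute b (u⁻¹ * (u * z)) := hbu.inv_right.mul_right (hba _ e)
      rw [inv_mul_cancel_left] at e1
      exact e1.eq
    · have e1 : Commute b (u⁻¹ * (u * (z * s))) := hbu.inv_right.mul_right (hba _ e)
      rw [inv_mul_cancel_left] at e1
      have e2 := e1.mul_right (show Commute b s from hbs).inv_right
      rw [mul_inv_cancel_right] at e2
      exact e2.eq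
  -- `A` has index 4 in `N`
  have hAN : A ≤ N := fun a ha => ⟨C.le ha, C.coord.near_le_normalizer h.mem h.notMem h.sq (C.le ha) (by
    have h1 := C.coord.normal h.mem (inv_mem ha)
    rw [show a * s * a⁻¹ * s⁻¹ = a * (s * a⁻¹ * s⁻¹) by group]
    exact mul_mem ha h1)⟩
  have hrel : ∀ H : Subgroup G, H ≤ N → Nat.card H ≤ Nat.card (H ⊓ A : Subgroup G) * 4 ∧
      (Nat.card H = Nat.card (H ⊓ A : Subgroup G) * 4 → N ≤ A ⊔ H) := by
    intro H hH
    have h4 : A.relIndex N = 4 := by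
      have := relIndex_mul_relIndex ⊥ A N bot_le hAN
      rw [relIndex_bot_left, relIndex_bot_left, C.coord.card_part, hN256] at this
      omega
    have hle : A.relIndex H ≤ A.relIndex N := relIndex_le_of_le_right hH (by rw [h4]; norm_num)
    have hmul := relIndex_mul_relIndex ⊥ (H ⊓ A) H bot_le inf_le_left
    rw [relIndex_bot_left, relIndex_bot_left, inf_relIndex_left] at hmul
    refine ⟨by rw [← hmul]; exact Nat.mul_le_mul_left _ (h4 ▸ hle), fun e => ?_⟩
    have h5 : A.relIndex H = 4 := by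
      rw [← hmul] at e
      exact Nat.eq_of_mul_eq_mul_left Nat.card_pos e
    have hAH : A ⊔ H ≤ N := sup_le hAN hH
    have h6 : 4 ≤ A.relIndex (A ⊔ H) := h5 ▸ relIndex_le_of_le_right le_sup_right
      (fun e => by
        have := relIndex_mul_relIndex ⊥ A (A ⊔ H) bot_le le_sup_left
        rw [e, relIndex_bot_left, relIndex_bot_left, mul_zero] at this
        exact Nat.card_pos.ne this)
    have h7 := relIndex_mul_relIndex ⊥ A (A ⊔ H) bot_le le_sup_left
    rw [relIndex_bot_left, relIndex_bot_left, C.coord.card_part] at h7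
    exact (eq_of_le_of_card_ge hAH (by omega)).ge
  have hUT : U ⊓ A = T := eq_of_le_of_card_ge hUA (by
    have := (hrel U hUN).1
    rw [hU, card_map_cg, ← hU] at this
    omega)
  set H := (bSub A s).map (cg x) with hH
  have hHU : H ≤ U := map_mono le_sup_left
  have hH16 : Nat.card H = 16 := by rw [hH, card_map_cg, C.coord.card_bSub h.mem h.notMem h.sq]
  by_cases hTH : T ≤ H
  · -- an element of `A` moves out of `A` inside the centraliser of `T`
    have hA'C : A.map (cg x) ≤ centralizer (T : Set G) := by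
      rintro _ ⟨a, ha, rfl⟩
      refine mem_centralizer_iff.2 fun t ht => ?_
      obtain ⟨b, hb, rfl⟩ := hTH ht
      show MulAut.conj x b * MulAut.conj x a = MulAut.conj x a * MulAut.conj x b
      rw [← map_mul, ← map_mul, C.coord.part_comm (mem_bSub.1 hb).1 ha]
    have hPC : N ≤ centralizer (T : Set G) := fun n hn => mem_centralizer_iff.2 fun t ht => ((hTN n hn).1 t ht).symm
    have hmax := C.max_of_bound (P := N) hAN hTA fun g hg => by
      have hne : ¬ (S : Subgroup G) ≤ centralizer (T.map (cg g) : Set G) := fun hle => by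
        have h1 : T.map (cg g) ≤ A ⊓ centralizer ((S : Subgroup G) : Set G) :=
          le_inf hg (le_centralizer_iff.1 hle)
        have h2 := card_le_of_le h1
        rw [card_map_cg, hT8, C.coord.card_fixed] at h2
        omega
      set P' := (S : Subgroup G) ⊓ centralizer (T.map (cg g) : Set G)
      obtain ⟨k, hk⟩ := card_dvd_of_le (inf_le_left : P' ≤ (S : Subgroup G))
      have hk1 : k ≠ 1 := fun e => hne (by
        have := eq_of_le_of_card_ge (inf_le_left : P' ≤ (S : Subgroup G)) (by rw [hk, e, mul_one])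
        exact this ▸ inf_le_right)
      rw [C.coord.card_eq] at hk
      rw [hN256]
      rcases k with _ | _ | k
      · omega
      · exact absurd rfl hk1
      · have := Nat.mul_le_mul_left (Nat.card P') (show 2 ≤ k + 1 + 1 by omega)
        linarith
    obtain ⟨k, hk, hkle⟩ := exists_conj_le hA'C (C.isPGroup.map _) hPC (S.2.to_le inf_le_left) hmax
    rw [← map_cg_mul] at hkle
    have hkx := C.mem_normalizer (hkle.trans inf_le_left)
    obtain ⟨b, hb, hbA⟩ : ∃ b ∈ H, b ∉ A := by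
      by_contra hcon
      push Not at hcon
      have h1 := card_le_of_le (le_inf hHU (fun b hb => hcon b hb) : H ≤ U ⊓ A)
      rw [hUT, hT8, hH16] at h1
      omega
    obtain ⟨b₀, hb₀, rfl⟩ := hb
    have hkn : k⁻¹ ∈ normalizer (T : Set G) := centralizer_le_normalizer _ (inv_mem hk)
    have hn : k * x * b₀ * (k * x)⁻¹ ∈ A := conj_of_normalizer hkx (mem_bSub.1 hb₀).1
    refine hbA ?_
    show x * b₀ * x⁻¹ ∈ A
    have e : k⁻¹ * (k * x * b₀ * (k * x)⁻¹) * k⁻¹⁻¹ = x * b₀ * x⁻¹ := by group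
    rw [← e]
    refine C.fused hTA inf_le_left hAN hPC hcom hmax hkn hn ?_
    rw [e]
    exact hUN (hHU ⟨b₀, hb₀, rfl⟩)
  · -- an element central modulo `A` is bad
    have hHA : Nat.card (H ⊓ A : Subgroup G) ≤ 4 := by
      have hlt : H ⊓ A < T := lt_of_le_of_ne ((inf_le_inf_right A hHU).trans hUT.le) fun e => hTH (e ▸ inf_le_left)
      obtain ⟨k, hk⟩ := card_dvd_of_le hlt.le
      have hne : Nat.card (H ⊓ A : Subgroup G) ≠ 8 := fun e => hlt.ne (eq_of_le_of_card_ge hlt.le (by rw [e, hT8]))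
      rw [hT8] at hk
      have hpos : 0 < Nat.card (H ⊓ A : Subgroup G) := Nat.card_pos
      rcases k with _ | _ | k
      · omega
      · omega
      · have := Nat.mul_le_mul_left (Nat.card (H ⊓ A : Subgroup G)) (show 2 ≤ k + 1 + 1 by omega)
        omega
    have hge := (hrel H (hHU.trans hUN)).1
    have hAHN := (hrel H (hHU.trans hUN)).2 (by omega)
    have hzN : z ∈ N := C.cSub_le_nm h.mem h.notMem h.sq hz
    have hAn : H ≤ normalizer (A : Set G) := fun w hw => C.coord.le_normalizer (hUN (hHU hw)).1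
    obtain ⟨a, ha, w, hw, rfl⟩ := (Cfsg.Lib.Coprime.mem_sup_of_le_normalizer hAn).1 (hAHN hzN)
    have hwS : w ∈ (S : Subgroup G) := (hUN (hHU hw)).1
    obtain ⟨b₀, hb₀, rfl⟩ := hw
    refine C.not_bad_central (s := x * b₀ * x⁻¹) ⟨hwS, fun e => hzA (mul_mem ha e),
      by rw [show x * b₀ * x⁻¹ * (x * b₀ * x⁻¹) = x * (b₀ * b₀) * x⁻¹ by group,
        C.coord.part_sq (mem_bSub.1 hb₀).1, mul_one, mul_inv_cancel],
      x⁻¹, by rw [show x⁻¹ * (x * b₀ * x⁻¹) * x⁻¹⁻¹ = b₀ by group]; exact (mem_bSub.1 hb₀).1⟩ ?_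
    intro y hy
    set w := x * b₀ * x⁻¹
    have h1 := hzc y hy
    have hmw : (MulAut.conj x).toMonoidHom b₀ = w := rfl
    rw [hmw] at h1
    have hm1 : y * a * y⁻¹ ∈ A := C.coord.normal hy ha
    have key := mul_mem (inv_mem hm1) (mul_mem h1 ha)
    rwa [show (y * a * y⁻¹)⁻¹ * (y * (a * w) * y⁻¹ * (a * w)⁻¹ * a) = y * w * y⁻¹ * w⁻¹ by group] at key

/-- The abelian subgroup of order 64 is strongly closed. -/
theorem stronglyClosed : Cfsg.IsStronglyClosed A (S : Subgroup G) := by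
  refine ⟨C.le, fun a ha g hg => by_contra fun hn => C.not_bad (s := g * a * g⁻¹) ⟨hg, hn, ?_, g⁻¹, ?_⟩⟩
  · rw [show g * a * g⁻¹ * (g * a * g⁻¹) = g * (a * a) * g⁻¹ by group, C.coord.part_sq ha, mul_one, mul_inv_cancel]
  · rw [show g⁻¹ * (g * a * g⁻¹) * g⁻¹⁻¹ = a by group]
    exact ha

end Config

end Cfsg.Lib.MTwentyFourNormal
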