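import Cfsg.Agent.Classical.MTwentyFour.Main

/-!
Finite facts about the action of the dihedral group of order 8 on the elementary abelian group of order 64 in a
Sylow 2-subgroup of the Mathieu group of degree 24 modulo its centre.
-/

set_option autoImplicit false
set_option maxRecDepth 100000
set_option maxHeartbeats 2000000
set_option synthInstance.maxSize 2000

namespace Cfsg.Lib.MTwentyFourNormal

open Cfsg.Lib.Classical.MTwentyFour

/-- The commutator of a complement element and an element of the abelian part. -/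
def cmt (h : Fin 8) (a : Fin 64) : Fin 64 := bxor a (phi h a)

/-- Two elements of the model commute. -/
abbrev Com (x y : Fin 64 × Fin 8) : Prop := law tab phi x y = law tab phi y x

theorem tab_assoc : ∀ h k l : Fin 8, tab (tab h k) l = tab h (tab k l) := by decide +kernel

theorem phi_tab : ∀ (h k : Fin 8) (a : Fin 64), phi (tab h k) a = phi h (phi k a) := by decide +kernel

theorem phi_bxor : ∀ (h : Fin 8) (a b : Fin 64), phi h (bxor a b) = bxor (phi h a) (phi h b) := by decide +kernel

theorem bxor_assoc (a b c : Fin 64) : bxor (bxor a b) c = bxor a (bxor b c) := by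
  have h : ∀ x y : Fin 64, (bxor x y).val = x.val ^^^ y.val := fun x y =>
    Nat.mod_eq_of_lt (Nat.xor_lt_two_pow (n := 6) x.2 y.2)
  exact Fin.ext (by rw [h, h, h, h, Nat.xor_assoc])

/-- An involution of the complement fixes a subgroup of order 16. -/
theorem fix_card : ∀ h : Fin 8, h ≠ 0 → tab h h = 0 →
    (Finset.univ.filter fun a : Fin 64 => phi h a = a).card = 16 := by decide +kernel

theorem fix_le : ∀ h : Fin 8, h ≠ 0 → (Finset.univ.filter fun a : Fin 64 => phi h a = a).card ≤ 16 := by
  decide +kernel

theorem fix_two : ∀ h k : Fin 8, h ≠ 0 → k ≠ 0 → h ≠ k →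
    (Finset.univ.filter fun a : Fin 64 => phi h a = a ∧ phi k a = a).card ≤ 8 := by decide +kernel

theorem fix_all : (Finset.univ.filter fun a : Fin 64 => ∀ h, phi h a = a).card = 4 := by decide +kernel

/-- Two commutators and their product are non-trivial. -/
theorem cmt_pair : ∀ h : Fin 8, h ≠ 0 → ∃ a b : Fin 64, cmt h a ≠ 0 ∧ cmt h b ≠ 0 ∧ cmt h (bxor a b) ≠ 0 := by
  decide +kernel

theorem fix_centr : ∀ h k : Fin 8, h ≠ 0 → tab h h = 0 → (∀ a, phi h a = a → phi k a = a) → k = 0 ∨ k = h := by
  decide +kernel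

theorem fix_stable : ∀ h k : Fin 8, tab h k = tab k h → tab h h = 0 →
    ∀ a, phi h (cmt k a) = cmt k a ∧ (phi h a = a → phi h (phi k a) = phi k a) := by
  decide +kernel

theorem square : ∀ h k : Fin 8, h ≠ 0 → tab h h = 0 → tab h k = tab k h → tab k k = 0 ∨ tab k k = h := by
  decide +kernel

/-- An involution of the complement is central, or commutes with exactly four elements. -/
theorem central_card : ∀ h : Fin 8, h ≠ 0 → tab h h = 0 →
    (∀ k, tab h k = tab k h) ∨ (Finset.univ.filter fun k : Fin 8 => tab h k = tab k h).card = 4 := by decide +kernel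

theorem centr_central : ∀ c : Fin 64, ∀ h : Fin 8, h ≠ 0 → tab h h = 0 → phi h c = c → (∀ k, tab h k = tab k h) →
    (Finset.univ.filter fun y : Fin 64 × Fin 8 => Com (c, h) y).card = 128 := by decide +kernel

theorem centr_noncentral : ∀ c : Fin 64, ∀ h : Fin 8, h ≠ 0 → tab h h = 0 → phi h c = c →
    ¬ (∀ k, tab h k = tab k h) → (Finset.univ.filter fun y : Fin 64 × Fin 8 => Com (c, h) y).card = 64 := by
  decide +kernel

/-- The centraliser of a non-central involution of the complement is an elementary abelian group. -/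
theorem noncentral_comm : ∀ h : Fin 8, h ≠ 0 → tab h h = 0 → ¬ (∀ k, tab h k = tab k h) →
    ∀ k l, tab h k = tab k h → tab h l = tab l h → tab k l = tab l k ∧ tab k k = 0 := by decide +kernel

/-- The centraliser of a non-central involution of the complement contains the central one. -/
theorem noncentral_four : ∀ h : Fin 8, h ≠ 0 → tab h h = 0 → ¬ (∀ k, tab h k = tab k h) →
    ∃ d, (d ≠ 0 ∧ d ≠ h ∧ tab h d = tab d h ∧ ∀ l, tab d l = tab l d) ∧
      (Finset.univ.filter fun a : Fin 64 => phi h a = a ∧ phi d a = a).card = 8 := by decide +kernel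

theorem noncentral_fix : ∀ h d k : Fin 8, h ≠ 0 → d ≠ 0 → d ≠ h → tab h h = 0 → ¬ (∀ l, tab h l = tab l h) →
    (∀ l, tab d l = tab l d) → tab h k = tab k h → ∀ a, phi h a = a → phi d a = a → phi k a = a := by
  decide +kernel

/-- The central involution of the complement lifts to an element commuting with a given non-central involution. -/
theorem noncentral_lift : ∀ c : Fin 64, ∀ h d : Fin 8, h ≠ 0 → tab h h = 0 → phi h c = c →
    ¬ (∀ k, tab h k = tab k h) → (∀ k, tab d k = tab k d) → ∃ a : Fin 64, Com (c, h) (a, d) := by decide +kernel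

theorem centr_lift : ∀ c : Fin 64, ∀ h l : Fin 8, h ≠ 0 → tab h h = 0 → phi h c = c →
    (∀ k, tab h k = tab k h) → ∃ a : Fin 64, Com (c, h) (a, l) := by decide +kernel

theorem four_cases : ∀ h d k : Fin 8, h ≠ 0 → d ≠ 0 → d ≠ h → tab h h = 0 → ¬ (∀ l, tab h l = tab l h) →
    (∀ l, tab d l = tab l d) → tab h k = tab k h → k = 0 ∨ k = h ∨ k = d ∨ k = tab h d := by decide +kernel

theorem four_sq : ∀ h d : Fin 8, h ≠ 0 → d ≠ 0 → tab h h = 0 → ¬ (∀ l, tab h l = tab l h) →
    (∀ l, tab d l = tab l d) → tab (tab h d) (tab h d) = 0 := by decide +kernel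

/-- Outside the centre of the complement conjugates move the fixed points of the central involution. -/
theorem central_moves : ∀ h k : Fin 8, h ≠ 0 → (∀ l, tab h l = tab l h) → k ≠ 0 → k ≠ h →
    (∃ b, phi h b = b ∧ phi k b ≠ b) ∧ ∃ l, tab k l ≠ tab l k := by decide +kernel

/-- The fixed points of the central involution are spanned by those with short orbits. -/
theorem central_span : ∀ h : Fin 8, h ≠ 0 → (∀ l, tab h l = tab l h) → ∀ b, phi h b = b →
    ∃ b₁ b₂, b = bxor b₁ b₂ ∧ phi h b₁ = b₁ ∧ phi h b₂ = b₂ ∧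
      (Finset.univ.image fun l : Fin 8 => phi l b₁).card ≤ 2 ∧
      (Finset.univ.image fun l : Fin 8 => phi l b₂).card ≤ 2 := by decide +kernel

theorem central_inv : ∀ h : Fin 8, (∀ l, tab h l = tab l h) → tab h h = 0 := by decide +kernel

/-- The commutators of the central involution are the fixed points of the whole complement. -/
theorem central_cmt : ∀ h : Fin 8, h ≠ 0 → (∀ l, tab h l = tab l h) →
    (∀ a l, phi l (cmt h a) = cmt h a) ∧ ∀ w, (∀ l, phi l w = w) → ∃ a, cmt h a = w := by decide +kernel

/-- The central involution of the complement is a commutator. -/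
theorem central_exists : ∃ d k l : Fin 8, d ≠ 0 ∧ (∀ m, tab d m = tab m d) ∧ tab d (tab l k) = tab k l := by
  decide +kernel

theorem square_inv : ∀ k : Fin 8, k ≠ 0 → tab k k = 0 ∨ (tab k k ≠ 0 ∧ tab (tab k k) (tab k k) = 0) := by
  decide +kernel

end Cfsg.Lib.MTwentyFourNormal
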